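import Mathlib
import Groth.Agent.H23FunFld.Weil
import Groth.Agent.H23FunFld.Rational

/-!
Double covers of the projective line.
-/

set_option autoImplicit false
set_option linter.unusedSectionVars false
set_option linter.style.haveILetI false

namespace Groth.Agent.H23Hyp

open Groth.Agent.H23FunFld Polynomial

theorem isFunctionField_ratFunc (k : Type*) [Field k] : FunFld.IsFunctionField k (RatFunc k) := by
  refine ⟨⟨RatFunc.X, RatFunc.transcendental_X, ?_⟩, fun w hw => ?_⟩
  · rw [RatFunc.adjoin_X]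
    exact Module.Finite.of_surjective
      (Algebra.linearMap (⊤ : IntermediateField k (RatFunc k)) (RatFunc k))
      fun z => ⟨⟨z, IntermediateField.mem_top⟩, rfl⟩
  · have h1 : IsIntegral k[X] w := hw.isIntegral.tower_top
    obtain ⟨p, rfl⟩ := IsIntegrallyClosed.isIntegral_iff.1 h1
    have hp : p.natDegree = 0 := by
      by_contra h
      have ha : IsAlgebraic k p :=
        (isAlgebraic_algebraMap_iff (RatFunc.algebraMap_injective k)).1 hw
      exact Polynomial.transcendental p h (mem_nonZeroDivisors_of_ne_zero (Polynomial.leadingCoeff_ne_zero.2 fun h0 => h (by rw [h0, Polynomial.natDegree_zero]))) ha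
    exact ⟨p.coeff 0, by rw [IsScalarTower.algebraMap_apply k k[X] (RatFunc k), Polynomial.algebraMap_eq,
      ← Polynomial.eq_C_of_natDegree_eq_zero hp]⟩

variable {k K : Type*} [Field k] [Field K] [Algebra k K]

/-- `k(x)` is the field of rational functions. -/
theorem exists_ratFunc_hom {x : K} (hx : Transcendental k x) :
    ∃ φ : RatFunc k →ₐ[k] K, φ RatFunc.X = x ∧ ∀ z, z ∈ IntermediateField.adjoin k ({x} : Set K) ↔ z ∈ φ.fieldRange := by
  have hmap : nonZeroDivisors k[X] ≤ Submonoid.comap (Polynomial.aeval x : k[X] →ₐ[k] K) (nonZeroDivisors K) := by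
    intro p hp
    exact mem_nonZeroDivisors_of_ne_zero fun h => nonZeroDivisors.ne_zero hp ((transcendental_iff.1 hx) p h)
  let φ := RatFunc.liftAlgHom (Polynomial.aeval x : k[X] →ₐ[k] K) hmap
  have hX : φ RatFunc.X = x := by
    change RatFunc.liftAlgHom (Polynomial.aeval x) hmap RatFunc.X = x
    rw [← RatFunc.algebraMap_X, RatFunc.liftAlgHom_apply, RatFunc.num_algebraMap, RatFunc.denom_algebraMap]
    simp
  refine ⟨φ, hX, fun z => ?_⟩
  rw [show φ.fieldRange = IntermediateField.adjoin k ({x} : Set K) from ?_]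
  rw [AlgHom.fieldRange_eq_map, ← RatFunc.adjoin_X, IntermediateField.adjoin_map, Set.image_singleton, hX]

/-- A reduced fraction. -/
theorem exists_reduced {x : K} (hx : Transcendental k x) {r : K} (hr : r ∈ IntermediateField.adjoin k ({x} : Set K)) :
    ∃ p q : k[X], q ≠ 0 ∧ IsCoprime p q ∧ r * aeval x q = aeval x p := by
  obtain ⟨φ, hφ, hmem⟩ := exists_ratFunc_hom hx
  obtain ⟨w, rfl⟩ := (hmem r).1 hr
  have haeval : ∀ p : k[X], φ (algebraMap k[X] (RatFunc k) p) = aeval x p := fun p => by
    have h : (φ.comp (IsScalarTower.toAlgHom k k[X] (RatFunc k))) = (aeval x) := by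
      refine Polynomial.algHom_ext ?_
      simp [RatFunc.algebraMap_X, hφ]
    exact AlgHom.congr_fun h p
  refine ⟨w.num, w.denom, w.denom_ne_zero, w.isCoprime_num_denom, ?_⟩
  rw [← haeval, ← haeval]
  change φ w * _ = _
  rw [← map_mul φ]
  exact congrArg φ (by
    conv_lhs => arg 1; rw [← RatFunc.num_div_denom w]
    rw [div_mul_cancel₀]
    exact RatFunc.algebraMap_ne_zero w.denom_ne_zero)

theorem mem_const_of_isAlgebraic {x : K} (hx : Transcendental k x) {r : K}
    (hr : r ∈ IntermediateField.adjoin k ({x} : Set K)) (ha : IsAlgebraic k r) :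
    r ∈ Set.range (algebraMap k K) := by
  obtain ⟨φ, hφ, hmem⟩ := exists_ratFunc_hom hx
  obtain ⟨w, rfl⟩ := (hmem r).1 hr
  obtain ⟨c, rfl⟩ := (isFunctionField_ratFunc k).2 w
    ((isAlgebraic_algHom_iff φ φ.injective).1 ha)
  exact ⟨c, (φ.commutes c).symm⟩

theorem val_aeval_of_one_lt (P : FunFld.Place k K) {x : K} (hP : 1 < P.1 x) {p : k[X]} (hp : p ≠ 0) :
    P.1 (aeval x p) = P.1 x ^ p.natDegree := by
  have hx0 : P.1 x ≠ 0 := ne_of_gt (zero_lt_one.trans hP)
  have hlead : P.1 (algebraMap k K (p.coeff p.natDegree) * x ^ p.natDegree) = P.1 x ^ p.natDegree := by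
    rw [map_mul, val_const P (c := p.coeff p.natDegree) (Polynomial.leadingCoeff_ne_zero.2 hp), one_mul, map_pow]
  rw [Polynomial.aeval_eq_sum_range, Finset.sum_range_succ]
  simp only [Algebra.smul_def]
  rw [P.1.map_add_eq_of_lt_right, hlead]
  rw [hlead]
  refine P.1.map_sum_lt (pow_ne_zero _ hx0) fun i hi => ?_
  rw [map_mul, map_pow]
  exact (mul_le_of_le_one_left zero_le (P.2.1 _)).trans_lt (pow_lt_pow_right₀ hP (Finset.mem_range.1 hi))

theorem val_aeval_le_one (P : FunFld.Place k K) {x : K} (hP : P.1 x ≤ 1) (p : k[X]) : P.1 (aeval x p) ≤ 1 :=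
  Algebra.adjoin_le (S := ({ P.O.toSubring with algebraMap_mem' := fun a => P.2.1 a } : Subalgebra k K))
    (Set.singleton_subset_iff.2 hP) (Polynomial.aeval_mem_adjoin_singleton k x)

variable (hK : FunFld.IsFunctionField k K)
include hK

/-- An element of `k(x)` in `L(n (x)_∞)` is a polynomial of degree at most `n`. -/
theorem exists_poly_of_mem_L {x : K} (hx : Transcendental k x) {r : K}
    (hr : r ∈ IntermediateField.adjoin k ({x} : Set K)) {n : ℕ}
    (hL : r ∈ FunFld.L (n • poleDiv (k := k) x)) :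
    ∃ p : k[X], p.natDegree ≤ n ∧ aeval x p = r := by
  obtain ⟨p, q, hq, hco, hpq⟩ := exists_reduced hx hr
  have hbound : ∀ P : FunFld.Place k K, P.1 x ≤ 1 → P.1 r ≤ 1 := fun P hP => by
    have h := mem_L.1 hL P
    rw [Finsupp.smul_apply, poleDiv_apply hK] at h
    rcases eq_or_ne x 0 with rfl | hx0
    · exact absurd isAlgebraic_zero hx
    have h0 := (val_le_one_iff P hx0).1 hP
    rw [max_eq_left (by omega), smul_zero, WithZero.exp_zero] at h
    exact h
  have hqdeg : q.natDegree = 0 := by
    by_contra hne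
    obtain ⟨u, v, huv⟩ := hco
    have hqx : aeval x q ∉ Set.range (algebraMap k K) := by
      rintro ⟨c, hc⟩
      refine hx.aeval q hne (mem_nonZeroDivisors_of_ne_zero (Polynomial.leadingCoeff_ne_zero.2 hq)) ?_
      rw [← hc]
      exact isAlgebraic_algebraMap c
    obtain ⟨P, hP⟩ := exists_zero hK hqx
    have hq0 : aeval x q ≠ 0 := fun h => hq ((transcendental_iff.1 hx) q h)
    have hPq : P.1 (aeval x q) < 1 := (val_lt_one_iff P hq0).2 hP
    have hPx : P.1 x ≤ 1 := by
      by_contra hgt
      rw [not_le] at hgt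
      rw [val_aeval_of_one_lt P hgt hq] at hPq
      exact absurd hPq (not_lt.2 (one_le_pow_of_one_le' hgt.le _))
    have hPp : P.1 (aeval x p) < 1 := by
      rw [← hpq, map_mul]
      exact (mul_le_of_le_one_left zero_le (hbound P hPx)).trans_lt hPq
    have h1 : P.1 (aeval x u * aeval x p + aeval x v * aeval x q) < 1 := by
      refine (P.1.map_add _ _).trans_lt (max_lt ?_ ?_) <;> rw [map_mul]
      · exact (mul_le_of_le_one_left zero_le (val_aeval_le_one P hPx u)).trans_lt hPp
      · exact (mul_le_of_le_one_left zero_le (val_aeval_le_one P hPx v)).trans_lt hPq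
    rw [← map_mul, ← map_mul, ← map_add, huv, map_one, map_one] at h1
    exact lt_irrefl _ h1
  have hq' : q = C (q.coeff 0) := Polynomial.eq_C_of_natDegree_eq_zero hqdeg
  have hc : q.coeff 0 ≠ 0 := fun h => hq (by rw [hq', h, map_zero])
  set p' := C (q.coeff 0)⁻¹ * p
  have hr' : aeval x p' = r := by
    rw [hq', Polynomial.aeval_C] at hpq
    rw [map_mul, Polynomial.aeval_C, ← hpq, map_inv₀, mul_comm r, inv_mul_cancel_left₀ (by simpa using hc)]
  refine ⟨p', ?_, hr'⟩
  obtain ⟨P, hP⟩ := exists_pole hK (x := x) fun ⟨c, hc⟩ => hx (hc ▸ isAlgebraic_algebraMap c)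
  have hx0 : x ≠ 0 := fun h => hx (h ▸ isAlgebraic_zero)
  rcases eq_or_ne p' 0 with h0 | h0
  · simp [h0]
  have hgt : 1 < P.1 x := by
    rw [val_eq_exp P hx0, ← WithZero.exp_zero, WithZero.exp_lt_exp]; omega
  have h := mem_L.1 hL P
  rw [← hr', val_aeval_of_one_lt P hgt h0, Finsupp.smul_apply, poleDiv_apply hK, val_eq_exp P hx0,
    ← WithZero.exp_nsmul, WithZero.exp_le_exp, max_eq_right (by omega), nsmul_eq_mul, nsmul_eq_mul] at h
  have : (p'.natDegree : ℤ) ≤ n := by nlinarith
  exact_mod_cast this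

omit hK in
theorem pow_mem_L' (hK : FunFld.IsFunctionField k K) {x : K} {j n : ℕ} (h : j ≤ n) :
    x ^ j ∈ FunFld.L (n • poleDiv (k := k) x) :=
  L_mono (nsmul_le_nsmul_left (poleDiv_nonneg hK x) h) (pow_mem_L (mem_L_poleDiv hK x) j)

/-- Two different rational subfields of index two force the genus to be at most one. -/
theorem genus_le_one_of_two_subfields {x x' : K}
    (hx : Module.finrank (IntermediateField.adjoin k ({x} : Set K)) K = 2)
    (hx' : Module.finrank (IntermediateField.adjoin k ({x'} : Set K)) K = 2)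
    (hne : IntermediateField.adjoin k ({x} : Set K) ≠ IntermediateField.adjoin k ({x'} : Set K)) :
    FunFld.genus k K ≤ 1 := by
  have htr : ∀ z : K, Module.finrank (IntermediateField.adjoin k ({z} : Set K)) K = 2 → Transcendental k z := by
    intro z hz
    refine transcendental_of_notMem hK ?_
    rintro ⟨c, rfl⟩
    rw [IntermediateField.adjoin_simple_eq_bot_iff.2 ((⊥ : IntermediateField k K).algebraMap_mem c),
      IntermediateField.finrank_bot'] at hz
    haveI : FiniteDimensional k K := Module.finite_of_finrank_pos (hz ▸ two_pos)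
    obtain ⟨y, hy, -⟩ := hK.1
    exact hy (IsAlgebraic.of_finite k y)
  have hx1 := htr x hx
  have hnot : x' ∉ IntermediateField.adjoin k ({x} : Set K) := by
    intro hmem
    have hle : IntermediateField.adjoin k ({x'} : Set K) ≤ IntermediateField.adjoin k ({x} : Set K) :=
      IntermediateField.adjoin_le_iff.2 (Set.singleton_subset_iff.2 hmem)
    haveI : FiniteDimensional (IntermediateField.adjoin k ({x'} : Set K)) K :=
      Module.finite_of_finrank_pos (hx' ▸ two_pos)
    exact hne (IntermediateField.eq_of_le_of_finrank_eq' hle (hx'.trans hx.symm)).symm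
  set F := IntermediateField.adjoin k ({x} : Set K)
  have hb : LinearIndependent F ![1, x'] := by
    rw [LinearIndependent.pair_iff' one_ne_zero]
    intro a ha
    refine hnot ?_
    rw [← ha, Algebra.smul_def, mul_one]
    exact a.2
  set g := FunFld.genus k K
  have hli := linearIndependent_pow_mul hx1 hb g
  set A := poleDiv (k := k) x
  set A' := poleDiv (k := k) x'
  have hmem : ∀ p : Fin (g + 1) × Fin 2, x ^ (p.1 : ℕ) * ![1, x'] p.2 ∈ FunFld.L (g • A + A') := by
    rintro ⟨i, j⟩
    have h1 : x ^ (i : ℕ) ∈ FunFld.L (g • A) := pow_mem_L' hK (Nat.lt_succ_iff.1 i.2)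
    fin_cases j
    · change x ^ (i : ℕ) * (1 : K) ∈ _
      rw [mul_one]
      exact L_mono (le_add_of_nonneg_right (poleDiv_nonneg hK x')) h1
    · exact mul_mem_L h1 (mem_L_poleDiv hK x')
  haveI := finiteDimensional_L hK (g • A + A')
  have hcard := (LinearIndependent.of_comp (FunFld.L (g • A + A')).subtype
    (v := fun p => (⟨_, hmem p⟩ : FunFld.L (g • A + A'))) hli).fintype_card_le_finrank
  rw [Fintype.card_prod, Fintype.card_fin, Fintype.card_fin] at hcard
  have hdeg : (g • A + A').deg = 2 * (g : ℤ) + 2 := by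
    rw [deg_add, deg_nsmul, deg_poleDiv hK hx1, deg_poleDiv hK (htr x' hx'), hx, hx']
    push_cast; ring
  have hell := ell_of_deg_large hK (D := g • A + A') (by rw [hdeg]; omega)
  rw [hdeg] at hell
  change _ ≤ FunFld.ell (g • A + A') at hcard
  omega

end Groth.Agent.H23Hyp
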