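import Mathlib
import Groth.Agent.H23Hyp.Basic

/-!
Quadratic extensions: conjugation and coordinates.
-/

set_option autoImplicit false
set_option linter.unusedSectionVars false
set_option linter.style.haveILetI false

namespace Groth.Agent.H23Hyp

open Polynomial

variable {F K : Type*} [Field F] [Field K] [Algebra F K]

theorem coords (hdeg : Module.finrank F K = 2) {y : K} (hy : y ∉ Set.range (algebraMap F K)) (z : K) :
    ∃ a b : F, z = algebraMap F K a + algebraMap F K b * y := by
  haveI : FiniteDimensional F K := Module.finite_of_finrank_pos (hdeg ▸ two_pos)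
  have hli : LinearIndependent F ![1, y] := by
    rw [LinearIndependent.pair_iff' one_ne_zero]
    intro a ha
    exact hy ⟨a, by rw [← ha, Algebra.smul_def, mul_one]⟩
  have hspan := hli.span_eq_top_of_card_eq_finrank (by rw [Fintype.card_fin, hdeg])
  obtain ⟨c, hc⟩ := (Submodule.mem_span_range_iff_exists_fun F).1 (hspan ▸ Submodule.mem_top (x := z))
  refine ⟨c 0, c 1, ?_⟩
  rw [← hc, Fin.sum_univ_two, Algebra.smul_def, Algebra.smul_def]
  simp

theorem coords_unique {y : K} (hy : y ∉ Set.range (algebraMap F K)) {a b a' b' : F}
    (h : algebraMap F K a + algebraMap F K b * y = algebraMap F K a' + algebraMap F K b' * y) :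
    a = a' ∧ b = b' := by
  have hb : b = b' := by
    by_contra hne
    refine hy ⟨(a' - a) / (b - b'), ?_⟩
    have h0 : algebraMap F K b - algebraMap F K b' ≠ 0 := by
      rw [← map_sub]; exact (_root_.map_ne_zero _).2 (sub_ne_zero.2 hne)
    rw [map_div₀, map_sub, map_sub, div_eq_iff h0]
    linear_combination -h
  subst hb
  exact ⟨(algebraMap F K).injective (add_right_cancel h), rfl⟩

theorem finrank_adjoin_eq_top (hdeg : Module.finrank F K = 2) {y : K} (hy : y ∉ Set.range (algebraMap F K)) :
    IntermediateField.adjoin F ({y} : Set K) = ⊤ := by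
  refine eq_top_iff.2 fun z _ => ?_
  obtain ⟨a, b, rfl⟩ := coords hdeg hy z
  exact add_mem (IntermediateField.algebraMap_mem _ a)
    (mul_mem (IntermediateField.algebraMap_mem _ b) (IntermediateField.mem_adjoin_simple_self F y))

/-- The conjugation. -/
theorem exists_conj (hdeg : Module.finrank F K = 2) {y : K} (hy : y ∉ Set.range (algebraMap F K))
    {a b : F} (heq : y ^ 2 + algebraMap F K a * y + algebraMap F K b = 0) :
    ∃ σ : K ≃ₐ[F] K, σ y = -algebraMap F K a - y := by
  haveI : FiniteDimensional F K := Module.finite_of_finrank_pos (hdeg ▸ two_pos)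
  have hint : IsIntegral F y := IsIntegral.of_finite F y
  set p : F[X] := X ^ 2 + C a * X + C b
  have hp : p.natDegree = 2 := by simp only [p]; compute_degree!
  have hpm : p.Monic := by simp only [p]; monicity!
  have hp0 : aeval y p = 0 := by simp [p, heq]
  have hmin : minpoly F y = p := by
    refine (eq_of_monic_of_dvd_of_natDegree_le (minpoly.monic hint) hpm (minpoly.dvd F y hp0) ?_).symm
    rw [hp, ← IntermediateField.adjoin.finrank hint, finrank_adjoin_eq_top hdeg hy, IntermediateField.finrank_top',
      hdeg]
  let pb := (IntermediateField.adjoin.powerBasis hint).map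
    ((IntermediateField.equivOfEq (finrank_adjoin_eq_top hdeg hy)).trans IntermediateField.topEquiv)
  have hgen : pb.gen = y := rfl
  have hroot : aeval (-algebraMap F K a - y) (minpoly F pb.gen) = 0 := by
    rw [hgen, hmin]
    simp only [p, map_add, map_pow, map_mul, aeval_X, aeval_C]
    linear_combination heq
  let σ := pb.lift _ hroot
  refine ⟨AlgEquiv.ofBijective σ (AlgHom.bijective σ), ?_⟩
  exact hgen ▸ pb.lift_gen _ hroot

end Groth.Agent.H23Hyp
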