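import Mathlib
import Groth.Agent.H23Hyp.Basic
import Groth.Agent.H23Hyp.Quadratic

/-!
The curve `y² = f(x)`.
-/

set_option autoImplicit false
set_option linter.unusedSectionVars false
set_option linter.style.haveILetI false

namespace Groth.Agent.H23Hyp

open Groth.Agent.H23FunFld Polynomial

variable {k K : Type*} [Field k] [Field K] [Algebra k K] {x y : K} {f : k[X]}
  (h2 : ringChar k ≠ 2) (hx : Transcendental k x)
  (hxy : IntermediateField.adjoin k ({x, y} : Set K) = ⊤) (hf : Squarefree f) (hd : 1 ≤ f.natDegree)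
  (heq : y ^ 2 = aeval x f)

include h2 in
theorem two_ne_zero' : (2 : K) ≠ 0 := by
  haveI := ringChar.charP k
  haveI : CharP K (ringChar k) := charP_of_injective_algebraMap (algebraMap k K).injective _
  exact Ring.two_ne_zero (by rwa [ringChar.eq K (ringChar k)])

include hx hf hd heq in
theorem y_notMem : y ∉ IntermediateField.adjoin k ({x} : Set K) := by
  intro hy
  obtain ⟨p, q, hq, hco, hpq⟩ := exists_reduced hx hy
  have h : aeval x (q ^ 2 * f) = aeval x (p ^ 2) := by
    rw [map_mul, map_pow, map_pow, ← hpq, mul_pow, heq]; ring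
  have h' : q ^ 2 * f = p ^ 2 := (transcendental_iff_injective.1 hx) h
  have hqu : IsUnit q := by
    have : q ∣ p ^ 2 := ⟨q * f, by rw [← h']; ring⟩
    exact isUnit_of_dvd_one ((hco.symm.pow_right (n := 2)).dvd_of_dvd_mul_right (by simpa using this))
  have hpu : IsUnit p := hf p ⟨(↑hqu.unit⁻¹ : k[X]) ^ 2, by
    rw [← pow_two, ← h', mul_assoc, mul_comm f, ← mul_assoc, ← mul_pow, IsUnit.mul_val_inv, one_pow, one_mul]⟩
  have h3 := congrArg Polynomial.natDegree h'
  rw [natDegree_mul (pow_ne_zero _ hq) (fun h0 => by simp [h0] at hd), natDegree_pow, natDegree_pow,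
    natDegree_eq_zero_of_isUnit hqu, natDegree_eq_zero_of_isUnit hpu] at h3
  omega

include hx hxy hf hd heq in
theorem finrank_two : Module.finrank (IntermediateField.adjoin k ({x} : Set K)) K = 2 ∧
    FiniteDimensional (IntermediateField.adjoin k ({x} : Set K)) K := by
  set F := IntermediateField.adjoin k ({x} : Set K)
  let f' : F[X] := X ^ 2 - C (⟨aeval x f, IntermediateField.algebra_adjoin_le_adjoin k _ (aeval_mem_adjoin_singleton k x)⟩ : F)
  have hroot : aeval y f' = 0 := by
    simp only [f', map_sub, map_pow, aeval_X, aeval_C]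
    rw [heq]; exact sub_self _
  have hm : f'.Monic := by simp only [f']; monicity!
  have hint : IsIntegral F y := ⟨f', hm, hroot⟩
  have htop : IntermediateField.adjoin F ({y} : Set K) = ⊤ := by
    refine IntermediateField.restrictScalars_injective k ?_
    rw [IntermediateField.restrictScalars_top, IntermediateField.adjoin_adjoin_left, Set.singleton_union, hxy]
  have hfin : FiniteDimensional F K := by
    haveI := IntermediateField.adjoin.finiteDimensional hint
    rw [htop] at this
    exact Module.Finite.equiv IntermediateField.topEquiv.toLinearEquiv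
  refine ⟨le_antisymm ?_ ?_, hfin⟩
  · rw [← IntermediateField.finrank_top', ← htop, IntermediateField.adjoin.finrank hint]
    refine (natDegree_le_of_dvd (minpoly.dvd F y hroot) hm.ne_zero).trans ?_
    simp only [f']; compute_degree
  · by_contra hlt
    have h1 : Module.finrank F K = 1 := by
      have := Module.finrank_pos (R := F) (M := K)
      omega
    have hmem : y ∈ F := by
      obtain ⟨c, hc⟩ := (finrank_eq_one_iff_of_nonzero' (1 : K) one_ne_zero).1 h1 y
      rw [← hc, Algebra.smul_def, mul_one]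
      exact c.2
    exact y_notMem hx hf hd heq hmem

include hx hxy hf hd heq in
theorem exists_sigma : ∃ σ : K ≃ₐ[IntermediateField.adjoin k ({x} : Set K)] K, σ y = -y := by
  have hfy : aeval x f ∈ IntermediateField.adjoin k ({x} : Set K) :=
    IntermediateField.algebra_adjoin_le_adjoin k _ (aeval_mem_adjoin_singleton k x)
  obtain ⟨σ, hσ⟩ := exists_conj (finrank_two hx hxy hf hd heq).1
    (y := y) (fun ⟨c, hc⟩ => y_notMem hx hf hd heq (hc ▸ c.2)) (a := 0) (b := -⟨_, hfy⟩)
    (by rw [map_zero, zero_mul, add_zero, map_neg, heq]; exact add_neg_cancel _)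
  exact ⟨σ, by rw [hσ, map_zero, neg_zero, zero_sub]⟩

include hx hf in
/-- A square multiple of `f` which is a polynomial. -/
theorem exists_poly_of_sq {b : K} (hb : b ∈ IntermediateField.adjoin k ({x} : Set K)) {s : k[X]}
    (hs : b ^ 2 * aeval x f = aeval x s) : ∃ r : k[X], aeval x r = b ∧ r ^ 2 * f = s := by
  obtain ⟨p, q, hq, hco, hpq⟩ := exists_reduced hx hb
  have h : p ^ 2 * f = q ^ 2 * s := by
    refine (transcendental_iff_injective.1 hx) ?_
    simp only [map_mul, map_pow, ← hpq, ← hs]; ring
  have hdvd : q ^ 2 ∣ f := (hco.symm.pow (m := 2) (n := 2)).dvd_of_dvd_mul_left ⟨s, h⟩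
  have hqu : IsUnit q := hf q (by rw [← pow_two]; exact hdvd)
  obtain ⟨u, hu⟩ := hqu
  refine ⟨p * (↑u⁻¹ : k[X]), ?_, ?_⟩
  · rw [map_mul, ← hpq, mul_assoc, ← map_mul, ← hu, Units.mul_inv, map_one, mul_one]
  · rw [mul_pow, mul_right_comm, h, ← hu, mul_comm _ s, mul_assoc, ← mul_pow, Units.mul_inv, one_pow, mul_one]

include h2 hx hxy hf hd heq in
theorem isFunctionField : FunFld.IsFunctionField k K := by
  refine ⟨⟨x, hx, (finrank_two hx hxy hf hd heq).2⟩, fun z hz => ?_⟩
  set F := IntermediateField.adjoin k ({x} : Set K)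
  obtain ⟨σ, hσ⟩ := exists_sigma hx hxy hf hd heq
  obtain ⟨a, b, rfl⟩ := coords (finrank_two hx hxy hf hd heq).1 (y := y)
    (fun ⟨c, hc⟩ => y_notMem hx hf hd heq (hc ▸ c.2)) z
  have hσz : IsAlgebraic k (σ (algebraMap F K a + algebraMap F K b * y)) := hz.algHom (σ.restrictScalars k).toAlgHom
  rw [map_add, map_mul, σ.commutes, σ.commutes, hσ] at hσz
  have ha : IsAlgebraic k (a : K) := by
    have h := (hz.add hσz).mul (isAlgebraic_algebraMap (2⁻¹ : k) (A := K))
    have e : (algebraMap F K a + algebraMap F K b * y + (algebraMap F K a + algebraMap F K b * -y)) *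
        algebraMap k K 2⁻¹ = (a : K) := by
      rw [map_inv₀, map_ofNat]
      field_simp [two_ne_zero' (K := K) h2]
      simp only [show ∀ w : F, algebraMap F K w = (w : K) from fun _ => rfl]
      ring
    rwa [e] at h
  obtain ⟨c, hc⟩ := mem_const_of_isAlgebraic hx a.2 ha
  have hby : IsAlgebraic k ((b : K) * y) := by
    have := hz.sub ha
    change IsAlgebraic k ((a : K) + b * y - a) at this
    rwa [add_sub_cancel_left] at this
  have hsq : IsAlgebraic k ((b : K) ^ 2 * aeval x f) := by
    rw [← heq, ← mul_pow]; exact hby.pow 2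
  have hmem : (b : K) ^ 2 * aeval x f ∈ F :=
    mul_mem (pow_mem b.2 2) (IntermediateField.algebra_adjoin_le_adjoin k _ (aeval_mem_adjoin_singleton k x))
  obtain ⟨e, he⟩ := mem_const_of_isAlgebraic hx hmem hsq
  obtain ⟨r, hr, hrs⟩ := exists_poly_of_sq hx hf b.2 (s := C e) (by rw [aeval_C, he])
  have hr0 : r = 0 := by
    by_contra hne
    have := congrArg natDegree hrs
    rw [natDegree_mul (pow_ne_zero _ hne) (fun h0 => by simp [h0] at hd), natDegree_C] at this
    omega
  refine ⟨c, ?_⟩
  change _ = (a : K) + b * y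
  rw [← hr, hr0, map_zero, zero_mul, add_zero, hc]

include h2 hx hxy hf hd heq in
theorem genus_eq (hK : FunFld.IsFunctionField k K) : FunFld.genus k K = (f.natDegree - 1) / 2 := by
  classical
  set F := IntermediateField.adjoin k ({x} : Set K)
  set g := FunFld.genus k K
  set d := f.natDegree
  obtain ⟨σ, hσ⟩ := exists_sigma hx hxy hf hd heq
  have hynot : y ∉ Set.range (algebraMap F K) := fun ⟨c, hc⟩ => y_notMem hx hf hd heq (hc ▸ c.2)
  set n := g + d
  set A := poleDiv (k := k) x
  set D := n • A
  have hx0 : x ≠ 0 := fun h => hx (h ▸ isAlgebraic_zero)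
  have hσL : ∀ z : K, z ∈ FunFld.L D → σ z ∈ FunFld.L D := by
    intro z hz
    refine mem_L.2 fun P => ?_
    let P' : FunFld.Place k K := ⟨P.1.comap (σ : K →+* K), fun c => by
      change P.1 (σ (algebraMap k K c)) ≤ 1
      rw [show σ (algebraMap k K c) = algebraMap k K c from (σ.restrictScalars k).commutes c]
      exact P.2.1 c, fun v => by
      obtain ⟨w, hw⟩ := P.2.2 v
      exact ⟨σ.symm w, by change P.1 (σ (σ.symm w)) = v; rw [σ.apply_symm_apply, hw]⟩⟩
    have h := mem_L.1 hz P'
    have e : D P' = D P := by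
      simp only [D, A, Finsupp.smul_apply, poleDiv_apply hK]
      have hval : P'.1 x = P.1 x := by
        change P.1 (σ x) = _
        rw [show σ x = x from σ.commutes ⟨x, IntermediateField.mem_adjoin_simple_self k x⟩]
      simp only [FunFld.Place.ord, hval]
    rw [e] at h
    exact h
  -- the basis
  set m := n + 1 - (d + 1) / 2
  let v : Fin (n + 1) ⊕ Fin m → K := Sum.elim (fun i => x ^ (i : ℕ)) (fun j => x ^ (j : ℕ) * y)
  have hli0 : LinearIndependent F ![1, y] := by
    rw [LinearIndependent.pair_iff' one_ne_zero]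
    intro a ha
    exact hynot ⟨a, by rw [← ha, Algebra.smul_def, mul_one]⟩
  have hli : LinearIndependent k v := by
    have h := (linearIndependent_pow_mul (k := k) hx hli0 n).comp
      (Sum.elim (fun i => (i, 0)) (fun j : Fin m => (⟨j, by omega⟩, 1)) : Fin (n + 1) ⊕ Fin m → Fin (n + 1) × Fin 2)
      (by
        rintro (a | a) (b | b) hab <;> simp [Prod.ext_iff, Fin.ext_iff] at hab
        · rw [Fin.ext hab]
        · rw [Fin.ext hab])
    convert h using 1
    funext i
    rcases i with i | j <;> simp [v]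
  have hyL : ∀ j : ℕ, 2 * j + d ≤ 2 * n → x ^ j * y ∈ FunFld.L D := by
    intro j hj
    refine mem_L.2 fun P => ?_
    have hsq : (x ^ j * y) ^ 2 ∈ FunFld.L ((2 * n) • A) := by
      rw [mul_pow, heq, ← pow_mul, mul_comm j 2]
      refine L_mono (nsmul_le_nsmul_left (poleDiv_nonneg hK x) hj) ?_
      rw [add_nsmul]
      refine mul_mem_L (pow_mem_L (mem_L_poleDiv hK x) _) ?_
      rw [aeval_eq_sum_range]
      refine Submodule.sum_mem _ fun i hi => Submodule.smul_mem _ _ ?_
      exact pow_mem_L' hK (Nat.lt_succ_iff.1 (Finset.mem_range.1 hi))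
    have h := mem_L.1 hsq P
    rw [mul_smul, Finsupp.smul_apply, map_pow, two_nsmul, WithZero.exp_add, ← pow_two] at h
    exact (pow_le_pow_iff_left₀ zero_le zero_le two_ne_zero).1 h
  have hspan : Submodule.span k (Set.range v) = FunFld.L D := by
    refine le_antisymm (Submodule.span_le.2 ?_) fun z hz => ?_
    · rintro _ ⟨i | j, rfl⟩
      · exact pow_mem_L' hK (Nat.lt_succ_iff.1 i.2)
      · exact hyL j (by have := j.2; omega)
    obtain ⟨a, b, rfl⟩ := coords (finrank_two hx hxy hf hd heq).1 hynot z
    have h' := hσL _ hz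
    rw [map_add, map_mul, σ.commutes, σ.commutes, hσ] at h'
    have h2' : (2 : K) ≠ 0 := two_ne_zero' h2
    have haL : (a : K) ∈ FunFld.L D := by
      have := Submodule.smul_mem _ (2⁻¹ : k) (add_mem hz h')
      rw [Algebra.smul_def, map_inv₀, map_ofNat] at this
      convert this using 1
      field_simp
      rw [show algebraMap _ K a = (a : K) from rfl, show algebraMap _ K b = (b : K) from rfl]
      ring
    have hbL : (b : K) * y ∈ FunFld.L D := by
      have := sub_mem hz haL
      change (a : K) + b * y - a ∈ _ at this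
      rwa [add_sub_cancel_left] at this
    obtain ⟨p, hp, hpa⟩ := exists_poly_of_mem_L hK hx a.2 haL
    have hsqL : (b : K) ^ 2 * aeval x f ∈ FunFld.L ((2 * n) • A) := by
      rw [← heq, ← mul_pow, mul_smul]
      exact pow_mem_L hbL 2
    obtain ⟨s, hs, hsb⟩ := exists_poly_of_mem_L hK hx
      (mul_mem (pow_mem b.2 2) (IntermediateField.algebra_adjoin_le_adjoin k _ (aeval_mem_adjoin_singleton k x)))
      hsqL
    obtain ⟨r, hr, hrs⟩ := exists_poly_of_sq hx hf b.2 hsb.symm
    change (a : K) + b * y ∈ _
    refine Submodule.add_mem _ ?_ ?_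
    · rw [← hpa, aeval_eq_sum_range]
      refine Submodule.sum_mem _ fun i hi => Submodule.smul_mem _ _ (Submodule.subset_span ⟨Sum.inl ⟨i, ?_⟩, rfl⟩)
      have := Finset.mem_range.1 hi; omega
    · rcases eq_or_ne r 0 with h0 | h0
      · rw [← hr, h0, map_zero, zero_mul]; exact Submodule.zero_mem _
      rw [← hr, aeval_eq_sum_range, Finset.sum_mul]
      refine Submodule.sum_mem _ fun i hi => ?_
      rw [smul_mul_assoc]
      refine Submodule.smul_mem _ _ (Submodule.subset_span ⟨Sum.inr ⟨i, ?_⟩, rfl⟩)
      have h3 := congrArg natDegree hrs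
      rw [natDegree_mul (pow_ne_zero _ h0) (fun h0 => by simp [d, h0] at hd), natDegree_pow] at h3
      have := Finset.mem_range.1 hi
      omega
  have hell : FunFld.ell D = (n + 1) + m := by
    rw [FunFld.ell, ← hspan, finrank_span_eq_card hli, Fintype.card_sum, Fintype.card_fin, Fintype.card_fin]
  have hdeg : D.deg = 2 * (n : ℤ) := by
    rw [deg_nsmul, deg_poleDiv hK hx, (finrank_two hx hxy hf hd heq).1]; push_cast; ring
  have hrr := ell_of_deg_large hK (D := D) (by rw [hdeg]; omega)
  rw [hdeg, hell] at hrr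
  omega

end Groth.Agent.H23Hyp
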