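import Mathlib
import Groth.Agent.H23Hyp.Quadratic
import Groth.Agent.H23Ext.Galois
import Groth.Agent.H23Geom.Unram

/-!
Places in a quadratic extension.
-/

set_option autoImplicit false
set_option linter.unusedSectionVars false
set_option linter.style.haveILetI false

namespace Groth.Agent.H23Hyp

open Groth.Agent.H23FunFld Groth.Agent.H23Ext

variable {k F K : Type*} [Field k] [Field F] [Field K] [Algebra k F] [Algebra F K] [Algebra k K]
  [IsScalarTower k F K] [FiniteDimensional F K] (hF : FunFld.IsFunctionField k F)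
  {p : FunFld.Place k F} {P : FunFld.Place k K} {e : ℕ} (he : FunFld.IsOverWith P p e)
include hF he

theorem deg_below_le : p.deg ≤ P.deg := by
  haveI := Groth.Agent.H23Geom.isLocalHom_incl (⟨e, he⟩ : FunFld.IsOver P p)
  haveI hfin : FiniteDimensional k (IsLocalRing.ResidueField P.O) :=
    Module.finite_of_finrank_pos (deg_pos' (isFF_extension (K' := K) hF.1) P)
  exact LinearMap.finrank_le_finrank_of_injective
    (f := (show IsLocalRing.ResidueField p.O →ₐ[k] IsLocalRing.ResidueField P.O from
      { toRingHom := IsLocalRing.ResidueField.map (Groth.Agent.H23Geom.incl (⟨e, he⟩ : FunFld.IsOver P p))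
        commutes' := fun c => congrArg (IsLocalRing.residue P.O)
          (Subtype.ext (IsScalarTower.algebraMap_apply k F K c).symm) }).toLinearMap)
    (IsLocalRing.ResidueField.map (Groth.Agent.H23Geom.incl (⟨e, he⟩ : FunFld.IsOver P p))).injective

theorem ram_le_two (hdeg : Module.finrank F K = 2) : e ≤ 2 ∧
    (e = 2 → P.deg = p.deg ∧ ∀ R : FunFld.Place k K, FunFld.IsOver R p → R = P) := by
  classical
  set S := (finite_isOver (K' := K) hF p).toFinset
  have hS : ∀ R, R ∈ S ↔ FunFld.IsOver R p := fun R => Set.Finite.mem_toFinset _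
  have hsum := sum_ramIdx_mul_deg (K' := K) hF p S hS
  rw [hdeg] at hsum
  have hPS : P ∈ S := (hS P).2 ⟨e, he⟩
  have hle := deg_below_le hF he
  have hd := deg_pos hF p
  rw [← Finset.add_sum_erase _ _ hPS, ramIdx_eq he] at hsum
  refine ⟨Nat.le_of_mul_le_mul_right ((Nat.le_add_right _ _).trans (hsum.le.trans (Nat.mul_le_mul_left 2 hle)))
    (hd.trans_le hle), fun h2 => ?_⟩
  subst h2
  have hrest : ∑ R ∈ S.erase P, FunFld.ramIdx R p * R.deg = 0 := by omega
  refine ⟨by omega, fun R hR => ?_⟩
  by_contra hne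
  have h0 := Finset.sum_eq_zero_iff.1 hrest R (Finset.mem_erase.2 ⟨hne, (hS R).2 hR⟩)
  obtain ⟨e', he'⟩ := hR
  have h1 := IsOverWith.pos he'
  have h2 : 0 < R.deg := deg_pos' (isFF_extension (K' := K) hF.1) R
  rw [ramIdx_eq he'] at h0
  have := Nat.mul_pos h1 h2
  omega

/-- At a ramified place the conjugation is trivial on residues. -/
theorem val_conj_sub_lt (hdeg : Module.finrank F K = 2) (he2 : e = 2) (σ : K ≃ₐ[F] K) {z : K}
    (hz : P.1 z ≤ 1) : P.1 (σ z - z) < 1 := by
  obtain ⟨hdeq, huniq⟩ := (ram_le_two hF he hdeg).2 he2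
  haveI := Groth.Agent.H23Geom.isLocalHom_incl (⟨e, he⟩ : FunFld.IsOver P p)
  haveI : FiniteDimensional k (IsLocalRing.ResidueField P.O) :=
    Module.finite_of_finrank_pos (deg_pos' (isFF_extension (K' := K) hF.1) P)
  haveI : FiniteDimensional k (IsLocalRing.ResidueField p.O) := finiteDimensional_residueField hF p
  set f := (show IsLocalRing.ResidueField p.O →ₐ[k] IsLocalRing.ResidueField P.O from
      { toRingHom := IsLocalRing.ResidueField.map (Groth.Agent.H23Geom.incl (⟨e, he⟩ : FunFld.IsOver P p))
        commutes' := fun c => congrArg (IsLocalRing.residue P.O)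
          (Subtype.ext (IsScalarTower.algebraMap_apply k F K c).symm) }).toLinearMap
  have hsurj : Function.Surjective f :=
    (LinearMap.injective_iff_surjective_of_finrank_eq_finrank hdeq.symm).1
      (IsLocalRing.ResidueField.map (Groth.Agent.H23Geom.incl (⟨e, he⟩ : FunFld.IsOver P p))).injective
  obtain ⟨r, hr⟩ := hsurj (IsLocalRing.residue P.O ⟨z, hz⟩)
  obtain ⟨a, rfl⟩ := IsLocalRing.residue_surjective r
  set a' := algebraMap F K (a : F)
  have ha : P.1 (z - a') < 1 := by
    have h0 : IsLocalRing.residue P.O (⟨z, hz⟩ - Groth.Agent.H23Geom.incl (⟨e, he⟩ : FunFld.IsOver P p) a) = 0 := by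
      rw [map_sub, ← hr]
      exact sub_self _
    rw [IsLocalRing.residue_eq_zero_iff, ValuationSubring.valuation_lt_one_iff,
      ← P.1.isEquiv_valuation_valuationSubring.lt_one_iff_lt_one] at h0
    exact h0
  have hconj : conj σ P = P := huniq _ ⟨_, isOverWith_conj he σ⟩
  have hval : P.1 (σ (z - a')) = P.1 (z - a') := by
    have := congrArg (fun R : FunFld.Place k K => R.1 (z - a')) hconj
    simpa only [conj_apply] using this
  have e1 : σ z - z = σ (z - a') - (z - a') := by rw [map_sub, σ.commutes]; ring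
  rw [e1]
  exact (P.1.map_sub _ _).trans_lt (max_lt (hval.trans_lt ha) ha)

end Groth.Agent.H23Hyp
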