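import Mathlib
import Groth.Agent.H23Hyp.Basic

/-!
Places of the rational function field.
-/

set_option autoImplicit false
set_option linter.unusedSectionVars false
set_option linter.style.haveILetI false

namespace Groth.Agent.H23Hyp

open Groth.Agent.H23FunFld Polynomial

variable {k : Type*} [Field k]

theorem aeval_X_eq (q : k[X]) : aeval (RatFunc.X : RatFunc k) q = algebraMap k[X] (RatFunc k) q := by
  have h : (aeval (RatFunc.X : RatFunc k) : k[X] →ₐ[k] RatFunc k) = IsScalarTower.toAlgHom k k[X] (RatFunc k) := by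
    refine Polynomial.algHom_ext ?_
    simp [RatFunc.algebraMap_X]
  exact AlgHom.congr_fun h q

/-- The irreducible polynomial of a finite place. -/
theorem exists_prime_of_finite (p : FunFld.Place k (RatFunc k)) (hp : p.1 RatFunc.X ≤ 1) :
    ∃ π : k[X], Prime π ∧ p.1 (algebraMap k[X] (RatFunc k) π) = WithZero.exp (-1) ∧
      ∀ q : k[X], ¬ π ∣ q → p.1 (algebraMap k[X] (RatFunc k) q) = 1 := by
  set ι := algebraMap k[X] (RatFunc k)
  have hle : ∀ q : k[X], p.1 (ι q) ≤ 1 := fun q => by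
    rw [← aeval_X_eq]; exact val_aeval_le_one p hp q
  let I : Ideal k[X] :=
    { carrier := {q | p.1 (ι q) < 1}
      add_mem' := fun {a b} ha hb => by
        change p.1 (ι (a + b)) < 1
        rw [map_add]; exact (p.1.map_add _ _).trans_lt (max_lt ha hb)
      zero_mem' := by simp
      smul_mem' := fun c a ha => by
        change p.1 (ι (c * a)) < 1
        rw [map_mul, map_mul]
        exact (mul_le_of_le_one_left zero_le (hle c)).trans_lt ha }
  have hmem : ∀ q, q ∈ I ↔ p.1 (ι q) < 1 := fun q => Iff.rfl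
  have hone : ∀ q, q ∉ I → p.1 (ι q) = 1 := fun q hq => le_antisymm (hle q) (not_lt.1 ((hmem q).not.1 hq))
  have hI : I ≠ ⊥ := by
    intro h0
    obtain ⟨w, -, hw⟩ := exists_val_eq p (-1)
    have hw0 : w ≠ 0 := fun h => by rw [h, map_zero] at hw; exact WithZero.exp_ne_zero hw.symm
    have hd := RatFunc.num_div_denom w
    have h1 : ∀ q : k[X], q ≠ 0 → p.1 (ι q) = 1 := fun q hq => hone q (by rw [h0, Ideal.mem_bot]; exact hq)
    rw [← hd, map_div₀, h1 _ (RatFunc.num_ne_zero hw0), h1 _ w.denom_ne_zero, div_one, ← WithZero.exp_zero,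
      WithZero.exp_inj] at hw
    omega
  have hprime : I.IsPrime := by
    refine ⟨fun h => ?_, fun {a b} hab => ?_⟩
    · have : (1 : k[X]) ∈ I := by rw [h]; trivial
      simp [hmem] at this
    · by_contra hno
      push Not at hno
      rw [hmem, map_mul, map_mul, hone a hno.1, hone b hno.2, one_mul] at hab
      exact lt_irrefl _ hab
  set π := Submodule.IsPrincipal.generator I
  have hπI : π ∈ I := Submodule.IsPrincipal.generator_mem I
  have hπp : Prime π := by
    haveI := hprime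
    exact Submodule.IsPrincipal.prime_generator_of_isPrime I hI
  have hnd : ∀ q, ¬ π ∣ q → p.1 (ι q) = 1 := fun q hq => hone q fun h =>
    hq ((Submodule.IsPrincipal.mem_iff_generator_dvd I).1 h)
  refine ⟨π, hπp, ?_, hnd⟩
  have hπ0 : ι π ≠ 0 := RatFunc.algebraMap_ne_zero hπp.ne_zero
  have hv : p.1 (ι π) = WithZero.exp (-p.ord (ι π)) := val_eq_exp p hπ0
  set c := p.ord (ι π)
  have hc : 0 < c := (val_lt_one_iff p hπ0).1 ((hmem π).1 hπI)
  have hpoly : ∀ q : k[X], q ≠ 0 → ∃ m : ℤ, p.1 (ι q) = WithZero.exp (-(m * c)) := by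
    intro q hq
    obtain ⟨n, g, hg, rfl⟩ := WfDvdMonoid.max_power_factor hq hπp.irreducible
    refine ⟨n, ?_⟩
    rw [map_mul, map_mul, hnd g hg, mul_one, map_pow, map_pow, hv, ← WithZero.exp_nsmul]
    simp
  obtain ⟨w, -, hw⟩ := exists_val_eq p (-1)
  have hw0 : w ≠ 0 := fun h => by rw [h, map_zero] at hw; exact WithZero.exp_ne_zero hw.symm
  obtain ⟨m₁, hm₁⟩ := hpoly _ (RatFunc.num_ne_zero hw0)
  obtain ⟨m₂, hm₂⟩ := hpoly _ w.denom_ne_zero
  rw [← RatFunc.num_div_denom w, map_div₀, hm₁, hm₂, ← WithZero.exp_sub, WithZero.exp_inj] at hw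
  rw [hv]
  congr 1
  have hdvd : c ∣ 1 := ⟨m₁ - m₂, by linarith⟩
  have := Int.eq_one_of_dvd_one hc.le hdvd
  omega

/-- A squarefree polynomial has simple zeros. -/
theorem ord_squarefree_le_one (p : FunFld.Place k (RatFunc k)) (hp : p.1 RatFunc.X ≤ 1) {f : k[X]}
    (hf : Squarefree f) : 0 ≤ p.ord (algebraMap k[X] (RatFunc k) f) ∧
      p.ord (algebraMap k[X] (RatFunc k) f) ≤ 1 := by
  obtain ⟨π, hπ, hπv, hnd⟩ := exists_prime_of_finite p hp
  by_cases h : π ∣ f
  · obtain ⟨g, rfl⟩ := h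
    have hg : ¬ π ∣ g := fun ⟨u, hu⟩ => hπ.not_isUnit (hf π ⟨u, by rw [hu, mul_assoc]⟩)
    simp only [FunFld.Place.ord, map_mul, hπv, hnd g hg, mul_one, WithZero.log_exp]
    omega
  · simp [FunFld.Place.ord, hnd f h]

/-- The place at infinity. -/
theorem infty_facts (p : FunFld.Place k (RatFunc k)) (hp : p.ord (RatFunc.X : RatFunc k) < 0) :
    p.ord (RatFunc.X : RatFunc k) = -1 ∧ p.deg = 1 := by
  obtain ⟨-, P, hd, hP, hother⟩ := genus_zero_of_adjoin_top (isFunctionField_ratFunc k) RatFunc.adjoin_X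
  obtain rfl : p = P := by
    by_contra h
    have := hother p h
    omega
  exact ⟨hP, hd⟩

theorem genus_ratFunc : FunFld.genus k (RatFunc k) = 0 :=
  (genus_zero_of_adjoin_top (isFunctionField_ratFunc k) RatFunc.adjoin_X).1

theorem ord_poly_infty (p : FunFld.Place k (RatFunc k)) (hp : p.ord (RatFunc.X : RatFunc k) < 0) {f : k[X]}
    (hf : f ≠ 0) : p.ord (algebraMap k[X] (RatFunc k) f) = -(f.natDegree : ℤ) := by
  have h1 := (infty_facts p hp).1
  have hX : (RatFunc.X : RatFunc k) ≠ 0 := RatFunc.X_ne_zero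
  have hgt : 1 < p.1 (RatFunc.X : RatFunc k) := by
    rw [val_eq_exp p hX, ← WithZero.exp_zero, WithZero.exp_lt_exp]; omega
  have hv : p.1 (aeval (RatFunc.X : RatFunc k) f) = WithZero.exp (f.natDegree : ℤ) := by
    rw [val_aeval_of_one_lt p hgt hf, val_eq_exp p hX, h1, ← WithZero.exp_nsmul]
    congr 1
    simp
  rw [← aeval_X_eq, FunFld.Place.ord, hv, WithZero.log_exp]

end Groth.Agent.H23Hyp
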