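import Mathlib
import Groth.Agent.H23Hyp.RatPlaces
import Groth.Agent.H23Hyp.Ramify
import Groth.Agent.H23Ext.Conorm

/-!
Artin–Schreier double covers.
-/

set_option autoImplicit false
set_option linter.unusedSectionVars false
set_option linter.style.haveILetI false

namespace Groth.Agent.H23Hyp

open Groth.Agent.H23FunFld Groth.Agent.H23Ext

variable {k F K : Type*} [Field k] [Field F] [Field K] [Algebra k F] [Algebra F K] [Algebra k K]
  [IsScalarTower k F K] [FiniteDimensional F K] (hF : FunFld.IsFunctionField k F)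
  (hdeg : Module.finrank F K = 2)
  {y : K} (hy : y ∉ Set.range (algebraMap F K)) {f : F} (heq : y ^ 2 + y = algebraMap F K f)

include hy heq in
theorem as_sigma (hdeg : Module.finrank F K = 2) : ∃ σ : K ≃ₐ[F] K, σ y = -1 - y := by
  obtain ⟨σ, hσ⟩ := exists_conj hdeg hy (a := 1) (b := -f) (by rw [map_one, one_mul, map_neg, heq, add_neg_cancel])
  exact ⟨σ, by rw [hσ, map_one]⟩

include hy heq in
/-- Ramification at a pole of odd order. -/
theorem as_pole {p : FunFld.Place k F} {P : FunFld.Place k K} {e : ℕ} (he : FunFld.IsOverWith P p e)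
    (hp : p.ord f < 0) (hodd : Odd (p.ord f)) (hF : FunFld.IsFunctionField k F)
    (hdeg : Module.finrank F K = 2) : e = 2 ∧ P.ord y = p.ord f := by
  obtain ⟨he2, -⟩ := ram_le_two hF he hdeg
  have he1 := IsOverWith.pos he
  have hf0 : f ≠ 0 := fun h => by rw [h, ord_zero] at hp; exact lt_irrefl _ hp
  have hy0 : y ≠ 0 := fun h => hy ⟨0, by rw [map_zero, h]⟩
  have hy1 : y + 1 ≠ 0 := fun h => hy ⟨-1, by rw [map_neg, map_one, eq_neg_of_add_eq_zero_left h]⟩
  have h1 : P.ord y + P.ord (y + 1) = (e : ℤ) * p.ord f := by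
    rw [← IsOverWith.ord_eq he, ← heq, show y ^ 2 + y = y * (y + 1) by ring, ord_mul P hy0 hy1]
  have hneg : P.ord y < 0 := by
    by_contra hle
    have h2 : 0 ≤ P.ord (y + 1) := by
      rw [← val_le_one_iff P hy1]
      exact (P.1.map_add _ _).trans (max_le ((val_le_one_iff P hy0).2 (not_lt.1 hle)) (map_one P.1).le)
    nlinarith
  have h3 : P.1 (y + 1) = P.1 y := P.1.map_add_eq_of_lt_left (by
    rw [map_one, val_eq_exp P hy0, ← WithZero.exp_zero, WithZero.exp_lt_exp]; omega)
  have h4 : P.ord (y + 1) = P.ord y := by simp only [FunFld.Place.ord, h3]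
  rw [h4] at h1
  obtain ⟨q, hq⟩ := hodd
  interval_cases e <;> omega

include hy heq in
/-- No ramification where `f` has no pole. -/
theorem as_unram {p : FunFld.Place k F} {P : FunFld.Place k K} {e : ℕ} (he : FunFld.IsOverWith P p e)
    (hp : p.1 f ≤ 1) (hF : FunFld.IsFunctionField k F) (hdeg : Module.finrank F K = 2) [CharP K 2] :
    e = 1 ∧ P.1 y ≤ 1 := by
  have hyint : P.1 y ≤ 1 := by
    by_contra hgt
    rw [not_le] at hgt
    have h1 : P.1 (y ^ 2 + y) = P.1 (y ^ 2) := P.1.map_add_eq_of_lt_left (by
      rw [map_pow]; exact lt_self_pow₀ hgt one_lt_two)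
    have h2 : P.1 (algebraMap F K f) ≤ 1 := (le_one_iff_of_isOver ⟨e, he⟩ f).2 hp
    rw [← heq, h1, map_pow] at h2
    exact absurd h2 (not_le.2 (one_lt_pow₀ hgt two_ne_zero))
  refine ⟨?_, hyint⟩
  obtain ⟨he2, -⟩ := ram_le_two hF he hdeg
  have he1 := IsOverWith.pos he
  by_contra hne
  obtain ⟨σ, hσ⟩ := as_sigma hy heq hdeg
  have h := val_conj_sub_lt hF he hdeg (by omega) σ hyint
  have e1 : σ y - y = 1 := by
    rw [hσ]
    have h2 : (2 : K) = 0 := CharTwo.two_eq_zero
    linear_combination (-(y + 1)) * h2
  rw [e1, map_one] at h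
  exact lt_irrefl _ h

include hy heq in
/-- The Riemann–Roch space of a conormed divisor. -/
theorem as_genus [CharP K 2] (hF : FunFld.IsFunctionField k F) (hK : FunFld.IsFunctionField k K)
    (hdeg : Module.finrank F K = 2) (hg0 : FunFld.genus k F = 0)
    (hodd : ∀ p : FunFld.Place k F, p.ord f < 0 → Odd (p.ord f)) (E : FunFld.Divisor k F)
    (hE : ∀ p, E p = if p.ord f < 0 then (1 - p.ord f) / 2 else 0) :
    (FunFld.genus k K : ℤ) = -1 + E.deg := by
  classical
  have h2K : (2 : K) = 0 := CharTwo.two_eq_zero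
  obtain ⟨σ, hσ⟩ := as_sigma hy heq hdeg
  have hσ' : σ y = y + 1 := by rw [hσ]; linear_combination (-(y + 1)) * h2K
  obtain ⟨x, hx, -⟩ := hF.1
  have hEnn : 0 ≤ E := fun p => by
    rw [hE, Finsupp.coe_zero, Pi.zero_apply]
    split <;> omega
  -- a large divisor below
  set A := poleDiv (k := k) x
  set n := E.deg.toNat + FunFld.genus k K + 1
  set C := n • A
  have hAdeg : 1 ≤ A.deg := by
    rw [deg_poleDiv hF hx]
    haveI := finiteDimensional_adjoin hF hx
    exact_mod_cast Module.finrank_pos
  have hCdeg : (n : ℤ) ≤ C.deg := by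
    rw [deg_nsmul]
    exact le_mul_of_one_le_right (Int.natCast_nonneg n) hAdeg
  set C' := FunFld.conorm K C
  have hC' : ∀ {p : FunFld.Place k F} {P : FunFld.Place k K} {e : ℕ}, FunFld.IsOverWith P p e → C' P = e * C p :=
    fun he => conorm_apply C he (finite_isOver hF _)
  have hbelow : ∀ P : FunFld.Place k K, ∃ p e, FunFld.IsOverWith P p e := fun P => by
    obtain ⟨p, e, he⟩ := exists_below hF.1 P; exact ⟨p, e, he⟩
  have habove : ∀ p : FunFld.Place k F, ∃ P e, FunFld.IsOverWith (P : FunFld.Place k K) p e := fun p => by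
    obtain ⟨P, e, he⟩ := exists_above (K' := K) hF p; exact ⟨P, e, he⟩
  have hin : ∀ b : F, algebraMap F K b ∈ FunFld.L C' ↔ b ∈ FunFld.L C := by
    intro b
    rcases eq_or_ne b 0 with rfl | hb
    · simp
    have hb' : algebraMap F K b ≠ 0 := (map_ne_zero _).2 hb
    constructor
    · intro h
      refine mem_L.2 fun p => ?_
      obtain ⟨P, e, he⟩ := habove p
      have := (val_le_exp_iff P hb').1 (mem_L.1 h P)
      rw [IsOverWith.ord_eq he, hC' he] at this
      refine (val_le_exp_iff p hb).2 ?_
      have := IsOverWith.pos he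
      nlinarith
    · intro h
      refine mem_L.2 fun P => ?_
      obtain ⟨p, e, he⟩ := hbelow P
      have := (val_le_exp_iff p hb).1 (mem_L.1 h p)
      refine (val_le_exp_iff P hb').2 ?_
      rw [IsOverWith.ord_eq he, hC' he]
      nlinarith
  have hσL : ∀ z : K, z ∈ FunFld.L C' → σ z ∈ FunFld.L C' := by
    intro z hz
    refine mem_L.2 fun P => ?_
    obtain ⟨p, e, he⟩ := hbelow P
    have h := mem_L.1 hz (conj σ P)
    rw [conj_apply, hC' (isOverWith_conj he σ)] at h
    rwa [hC' he]
  -- the membership criterion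
  have hcrit : ∀ a b : F, algebraMap F K a + algebraMap F K b * y ∈ FunFld.L C' ↔
      a ∈ FunFld.L C ∧ b ∈ FunFld.L (C - E) := by
    intro a b
    have hyP : ∀ {P : FunFld.Place k K} {p : FunFld.Place k F} {e : ℕ}, FunFld.IsOverWith P p e → ¬ p.ord f < 0 →
        e = 1 ∧ P.1 y ≤ 1 := fun he h => as_unram hy heq he (by
      rcases eq_or_ne f 0 with rfl | hf0
      · simp
      · exact (val_le_one_iff _ hf0).2 (not_lt.1 h)) hF hdeg
    constructor
    · intro hz
      have h1 := add_mem (hσL _ hz) hz
      rw [map_add, map_mul, σ.commutes, σ.commutes, hσ'] at h1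
      have hbL : b ∈ FunFld.L C := (hin b).1 (by
        convert h1 using 1
        linear_combination (-(algebraMap F K a + algebraMap F K b * y)) * h2K)
      have hb' : b ∈ FunFld.L (C - E) := by
        refine mem_L.2 fun p => ?_
        rw [Finsupp.sub_apply, hE]
        split_ifs with hp
        swap
        · rw [sub_zero]; exact mem_L.1 hbL p
        rcases eq_or_ne b 0 with rfl | hb
        · simp
        obtain ⟨P, e, he⟩ := habove p
        obtain ⟨rfl, hyord⟩ := as_pole hy heq he hp (hodd p hp) hF hdeg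
        have hy0 : y ≠ 0 := fun h => hy ⟨0, by rw [map_zero, h]⟩
        have hb'' : algebraMap F K b ≠ 0 := (map_ne_zero _).2 hb
        have hby : P.ord (algebraMap F K b * y) = 2 * p.ord b + p.ord f := by
          rw [ord_mul P hb'' hy0, IsOverWith.ord_eq he, hyord]; rfl
        obtain ⟨q, hq⟩ := hodd p hp
        have hbound : P.1 (algebraMap F K b * y) ≤ WithZero.exp (C' P) := by
          rcases eq_or_ne a 0 with rfl | ha
          · have := mem_L.1 hz P
            simpa using this
          have hne : P.1 (algebraMap F K a) ≠ P.1 (algebraMap F K b * y) := by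
            intro h
            have := congrArg (fun v => -WithZero.log v) h
            change P.ord (algebraMap F K a) = P.ord (algebraMap F K b * y) at this
            rw [hby, IsOverWith.ord_eq he] at this
            push_cast at this
            omega
          have := mem_L.1 hz P
          rw [Valuation.map_add_of_distinct_val _ hne] at this
          exact (le_max_right _ _).trans this
        rw [val_le_exp_iff P (mul_ne_zero hb'' hy0), hby, hC' he] at hbound
        refine (val_le_exp_iff p hb).2 ?_
        push_cast at hbound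
        omega
      refine ⟨(hin a).1 ?_, hb'⟩
      refine mem_L.2 fun P => ?_
      obtain ⟨p, e, he⟩ := hbelow P
      have hzP := mem_L.1 hz P
      by_cases hp : p.ord f < 0
      · rcases eq_or_ne a 0 with rfl | ha
        · simp
        rcases eq_or_ne b 0 with rfl | hb
        · simpa using hzP
        obtain ⟨rfl, hyord⟩ := as_pole hy heq he hp (hodd p hp) hF hdeg
        have hy0 : y ≠ 0 := fun h => hy ⟨0, by rw [map_zero, h]⟩
        have hb'' : algebraMap F K b ≠ 0 := (map_ne_zero _).2 hb
        obtain ⟨q, hq⟩ := hodd p hp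
        have hne : P.1 (algebraMap F K a) ≠ P.1 (algebraMap F K b * y) := by
          intro h
          have := congrArg (fun v => -WithZero.log v) h
          change P.ord (algebraMap F K a) = P.ord (algebraMap F K b * y) at this
          rw [ord_mul P hb'' hy0, hyord, IsOverWith.ord_eq he, IsOverWith.ord_eq he] at this
          push_cast at this
          omega
        rw [Valuation.map_add_of_distinct_val _ hne] at hzP
        exact (le_max_left _ _).trans hzP
      · obtain ⟨rfl, hyint⟩ := hyP he hp
        have h3 : P.1 (algebraMap F K b * y) ≤ WithZero.exp (C' P) := by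
          rw [map_mul]
          exact (mul_le_of_le_one_right zero_le hyint).trans (mem_L.1 ((hin b).2 hbL) P)
        have := (P.1.map_sub (algebraMap F K a + algebraMap F K b * y) (algebraMap F K b * y)).trans (max_le hzP h3)
        rwa [add_sub_cancel_right] at this
    · rintro ⟨ha, hb⟩
      refine add_mem ((hin a).2 ha) (mem_L.2 fun P => ?_)
      obtain ⟨p, e, he⟩ := hbelow P
      rcases eq_or_ne b 0 with rfl | hb0
      · simp
      have hb1 := (val_le_exp_iff p hb0).1 (mem_L.1 hb p)
      rw [Finsupp.sub_apply, hE] at hb1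
      have hy0 : y ≠ 0 := fun h => hy ⟨0, by rw [map_zero, h]⟩
      have hb'' : algebraMap F K b ≠ 0 := (map_ne_zero _).2 hb0
      refine (val_le_exp_iff P (mul_ne_zero hb'' hy0)).2 ?_
      rw [ord_mul P hb'' hy0, IsOverWith.ord_eq he, hC' he]
      by_cases hp : p.ord f < 0
      · obtain ⟨rfl, hyord⟩ := as_pole hy heq he hp (hodd p hp) hF hdeg
        rw [if_pos hp] at hb1
        obtain ⟨q, hq⟩ := hodd p hp
        rw [hyord]
        push_cast
        omega
      · obtain ⟨rfl, hyint⟩ := hyP he hp
        rw [if_neg hp] at hb1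
        have := (val_le_one_iff P hy0).1 hyint
        push_cast
        omega
  -- counting
  haveI := finiteDimensional_L hF C
  haveI := finiteDimensional_L hF (C - E)
  let φ : (FunFld.L C × FunFld.L (C - E)) →ₗ[k] FunFld.L C' :=
    { toFun := fun v => ⟨algebraMap F K v.1 + algebraMap F K v.2 * y, (hcrit _ _).2 ⟨v.1.2, v.2.2⟩⟩
      map_add' := fun v w => Subtype.ext (by simp [map_add]; ring)
      map_smul' := fun c v => Subtype.ext (by
        change algebraMap F K (c • (v.1 : F)) + algebraMap F K (c • (v.2 : F)) * y = c • (algebraMap F K v.1 + algebraMap F K v.2 * y)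
        simp only [Algebra.smul_def, map_mul, ← IsScalarTower.algebraMap_apply]
        ring) }
  have hφ : Function.Bijective φ := by
    refine ⟨fun v w h => ?_, fun z => ?_⟩
    · obtain ⟨h1, h2⟩ := coords_unique hy (congrArg Subtype.val h)
      exact Prod.ext (Subtype.ext h1) (Subtype.ext h2)
    · obtain ⟨a, b, hab⟩ := coords hdeg hy (z : K)
      have h := (hcrit a b).1 (hab ▸ z.2)
      exact ⟨(⟨a, h.1⟩, ⟨b, h.2⟩), Subtype.ext hab.symm⟩
  have hcount : FunFld.ell C' = FunFld.ell C + FunFld.ell (C - E) := by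
    rw [FunFld.ell, ← (LinearEquiv.ofBijective φ hφ).finrank_eq, Module.finrank_prod]
    rfl
  have hn : (E.deg.toNat : ℤ) + FunFld.genus k K + 1 = n := by simp [n]
  have hEdeg := deg_nonneg hEnn
  have e1 := ell_of_deg_large hF (D := C) (by rw [hg0]; push_cast; omega)
  have e2 := ell_of_deg_large hF (D := C - E) (by rw [hg0, deg_sub]; push_cast; omega)
  have e3 := ell_of_deg_large hK (D := C') (by rw [deg_conorm hF, hdeg]; push_cast; omega)
  rw [deg_conorm hF, hdeg, hcount] at e3
  rw [hg0, deg_sub] at e2
  rw [hg0] at e1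
  push_cast at e1 e2 e3
  omega

end Groth.Agent.H23Hyp
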