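import Mathlib
import Groth.Agent.H23Hyp.Char2

/-!
`y² + y = f` over an algebraically closed field of characteristic two.
-/

set_option autoImplicit false
set_option linter.unusedSectionVars false
set_option linter.style.haveILetI false

namespace Groth.Agent.H23Hyp

open Groth.Agent.H23FunFld Groth.Agent.H23Ext Polynomial

universe u v

variable {k : Type u} {K : Type v}
    [Field k] [Field K] [Algebra k K] [Algebra (RatFunc k) K] [IsScalarTower k (RatFunc k) K]
    [CharP k 2] (hdeg : Module.finrank (RatFunc k) K = 2)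
    {y : K} (hy : y ∉ Set.range (algebraMap (RatFunc k) K)) {f : RatFunc k}
    (heq : y ^ 2 + y = algebraMap (RatFunc k) K f)
    {B : Finset k} {d : k → ℕ} (hd : ∀ β ∈ B, Odd (d β))
    (hpole : ∀ (p : FunFld.Place k (RatFunc k)) (β : k), β ∈ B →
      p.1 ((RatFunc.X : RatFunc k) - RatFunc.C β) < 1 → p.ord f = -(d β : ℤ))
    (hint : ∀ p : FunFld.Place k (RatFunc k), (∀ β ∈ B, 1 ≤ p.1 ((RatFunc.X : RatFunc k) - RatFunc.C β)) → p.1 f ≤ 1)

theorem xsub_eq (α : k) : algebraMap (RatFunc k) K RatFunc.X - algebraMap k K α =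
    algebraMap (RatFunc k) K ((RatFunc.X : RatFunc k) - RatFunc.C α) := by
  rw [map_sub, IsScalarTower.algebraMap_apply k (RatFunc k) K, ← RatFunc.algebraMap_eq_C]

theorem xsub_poly (α : k) : ((RatFunc.X : RatFunc k) - RatFunc.C α) =
    algebraMap k[X] (RatFunc k) (Polynomial.X - Polynomial.C α) := by
  rw [map_sub, RatFunc.algebraMap_X, RatFunc.algebraMap_C]

theorem xsub_ne (α : k) : ((RatFunc.X : RatFunc k) - RatFunc.C α) ≠ 0 := by
  rw [xsub_poly]; exact RatFunc.algebraMap_ne_zero (X_sub_C_ne_zero α)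

/-- The place at `x = α`. -/
theorem at_point (p : FunFld.Place k (RatFunc k)) {α : k} (h : p.1 ((RatFunc.X : RatFunc k) - RatFunc.C α) < 1) :
    p.1 RatFunc.X ≤ 1 ∧ p.ord ((RatFunc.X : RatFunc k) - RatFunc.C α) = 1 ∧
      ∀ q : k[X], ¬ (Polynomial.X - Polynomial.C α) ∣ q → p.1 (algebraMap k[X] (RatFunc k) q) = 1 := by
  have hX : p.1 RatFunc.X ≤ 1 := by
    have e : (RatFunc.X : RatFunc k) = (RatFunc.X - RatFunc.C α) + RatFunc.C α := by ring
    rw [e]
    refine (p.1.map_add _ _).trans (max_le h.le ?_)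
    rw [← RatFunc.algebraMap_eq_C]
    exact p.2.1 α
  obtain ⟨π, hπ, hπv, hnd⟩ := exists_prime_of_finite p hX
  have hdvd : π ∣ Polynomial.X - Polynomial.C α := by
    by_contra hn
    rw [xsub_poly, hnd _ hn] at h
    exact lt_irrefl _ h
  have hass := hπ.irreducible.associated_of_dvd (Polynomial.irreducible_X_sub_C α) hdvd
  refine ⟨hX, ?_, fun q hq => hnd q fun hq' => hq (hass.symm.dvd.trans hq')⟩
  have h1 := (ord_squarefree_le_one p hX (Polynomial.irreducible_X_sub_C α).squarefree).2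
  have h2 := (val_lt_one_iff p (xsub_ne α)).1 h
  rw [← xsub_poly] at h1
  omega

theorem at_infty (p : FunFld.Place k (RatFunc k)) (h : 1 < p.1 (RatFunc.X : RatFunc k)) (α : k) :
    p.ord ((RatFunc.X : RatFunc k) - RatFunc.C α) = -1 ∧ 1 ≤ p.1 ((RatFunc.X : RatFunc k) - RatFunc.C α) := by
  have hneg : p.ord (RatFunc.X : RatFunc k) < 0 := by
    rw [val_eq_exp p RatFunc.X_ne_zero, ← WithZero.exp_zero, WithZero.exp_lt_exp] at h
    omega
  have h1 := ord_poly_infty p hneg (X_sub_C_ne_zero α)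
  rw [← xsub_poly, Polynomial.natDegree_X_sub_C] at h1
  refine ⟨by exact_mod_cast h1, ?_⟩
  rw [val_eq_exp p (xsub_ne α), ← WithZero.exp_zero, WithZero.exp_le_exp]
  omega

theorem ord_eq_of_below {P : FunFld.Place k K} {p : FunFld.Place k (RatFunc k)} {e : ℕ}
    (he : FunFld.IsOverWith P p e) (α : k) :
    P.ord (algebraMap (RatFunc k) K RatFunc.X - algebraMap k K α) =
      (e : ℤ) * p.ord ((RatFunc.X : RatFunc k) - RatFunc.C α) := by
  rw [xsub_eq, IsOverWith.ord_eq he]

include hy in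
theorem y_ne_zero : y ≠ 0 := fun h => hy ⟨0, by rw [map_zero, h]⟩

include hdeg hy heq hd hpole in
/-- Above a pole. -/
theorem over_pole (P : FunFld.Place k K) {α : k} (hα : α ∈ B)
    (h : P.1 (algebraMap (RatFunc k) K RatFunc.X - algebraMap k K α) < 1) :
    P.ord y = -(d α : ℤ) ∧ P.ord (algebraMap (RatFunc k) K RatFunc.X - algebraMap k K α) = 2 ∧
      ∀ R : FunFld.Place k K, R.1 (algebraMap (RatFunc k) K RatFunc.X - algebraMap k K α) < 1 → R = P := by
  haveI : Module.Finite (RatFunc k) K := Module.finite_of_finrank_pos (by rw [hdeg]; norm_num)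
  have hF := isFunctionField_ratFunc k
  obtain ⟨p, e, he⟩ := exists_below (K' := K) hF.1 P
  have hlt : ∀ {R : FunFld.Place k K} {r : FunFld.Place k (RatFunc k)}, FunFld.IsOver R r →
      (R.1 (algebraMap (RatFunc k) K RatFunc.X - algebraMap k K α) < 1 ↔ r.1 ((RatFunc.X : RatFunc k) - RatFunc.C α) < 1) := by
    rintro R r ⟨e', he'⟩
    rw [xsub_eq, he']
    exact pow_lt_one_iff (IsOverWith.pos he').ne'
  have hp := (hlt ⟨e, he⟩).1 h
  have hf := hpole p α hα hp
  obtain ⟨q, hq⟩ := hd α hα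
  obtain ⟨rfl, hyP⟩ := as_pole hy heq he (by omega) (by rw [hf]; exact ⟨-(q : ℤ) - 1, by omega⟩) hF hdeg
  obtain ⟨-, huniq⟩ := (ram_le_two hF he hdeg).2 rfl
  refine ⟨by rw [hyP, hf], by rw [ord_eq_of_below he, (at_point p hp).2.1]; norm_num, fun R hR => huniq R ?_⟩
  obtain ⟨r, hr⟩ := exists_below (K' := K) hF.1 R
  have hr' := (hlt hr).1 hR
  obtain rfl : r = p := by
    refine place_eq_of_le fun w hw => ?_
    obtain ⟨-, ho1, hnd1⟩ := at_point r hr'
    obtain ⟨-, ho2, hnd2⟩ := at_point p hp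
    rcases eq_or_ne w 0 with rfl | hw0
    · simp
    obtain ⟨n, a, ha, hna⟩ := WfDvdMonoid.max_power_factor (RatFunc.num_ne_zero hw0)
      (Polynomial.irreducible_X_sub_C α)
    obtain ⟨m, b, hb, hmb⟩ := WfDvdMonoid.max_power_factor w.denom_ne_zero
      (Polynomial.irreducible_X_sub_C α)
    have key : ∀ s : FunFld.Place k (RatFunc k), s.ord ((RatFunc.X : RatFunc k) - RatFunc.C α) = 1 →
        (∀ q : k[X], ¬ (Polynomial.X - Polynomial.C α) ∣ q → s.1 (algebraMap k[X] (RatFunc k) q) = 1) →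
        s.1 w = WithZero.exp (-(n : ℤ) + m) := by
      intro s hs hsn
      rw [← RatFunc.num_div_denom w, hna, hmb, map_mul, map_mul, map_div₀, map_mul, map_mul, hsn a ha, hsn b hb,
        mul_one, mul_one, map_pow, map_pow, map_pow, map_pow, ← xsub_poly, val_eq_exp s (xsub_ne α), hs,
        ← WithZero.exp_nsmul, ← WithZero.exp_nsmul, ← WithZero.exp_sub]
      congr 1; simp
    rw [key p ho2 hnd2, ← key r ho1 hnd1]
    exact hw
  exact hr

include hdeg hy heq hint in
/-- Where `f` has no pole. -/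
theorem over_regular (P : FunFld.Place k K) {p : FunFld.Place k (RatFunc k)} {e : ℕ} (he : FunFld.IsOverWith P p e)
    (h : ∀ β ∈ B, 1 ≤ p.1 ((RatFunc.X : RatFunc k) - RatFunc.C β)) :
    e = 1 ∧ 0 ≤ P.ord y := by
  haveI : Module.Finite (RatFunc k) K := Module.finite_of_finrank_pos (by rw [hdeg]; norm_num)
  haveI : CharP K 2 := charP_of_injective_algebraMap (algebraMap k K).injective 2
  obtain ⟨h1, h2⟩ := as_unram hy heq he (hint p h) (isFunctionField_ratFunc k) hdeg
  exact ⟨h1, (val_le_one_iff P (y_ne_zero hy)).1 h2⟩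

include hdeg hy heq hint in
theorem over_infty (P : FunFld.Place k K) (h : 1 < P.1 (algebraMap (RatFunc k) K RatFunc.X)) :
    0 ≤ P.ord y ∧ ∀ α : k, P.ord (algebraMap (RatFunc k) K RatFunc.X - algebraMap k K α) = -1 := by
  haveI : Module.Finite (RatFunc k) K := Module.finite_of_finrank_pos (by rw [hdeg]; norm_num)
  obtain ⟨p, e, he⟩ := exists_below (K' := K) (isFunctionField_ratFunc k).1 P
  have hp : 1 < p.1 (RatFunc.X : RatFunc k) := by
    by_contra hle
    exact (not_le.2 h) ((le_one_iff_of_isOver ⟨e, he⟩ _).2 (not_lt.1 hle))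
  obtain ⟨rfl, hy0⟩ := over_regular hdeg hy heq hint P he fun β _ => (at_infty p hp β).2
  exact ⟨hy0, fun α => by rw [ord_eq_of_below he, (at_infty p hp α).1]; norm_num⟩

include hdeg hy heq hint in
theorem over_other (P : FunFld.Place k K) (hx : P.1 (algebraMap (RatFunc k) K RatFunc.X) ≤ 1)
    (h : ∀ β : k, β ∈ B → 1 ≤ P.1 (algebraMap (RatFunc k) K RatFunc.X - algebraMap k K β)) :
    0 ≤ P.ord y ∧ ∀ α : k, α ∈ B → P.ord (algebraMap (RatFunc k) K RatFunc.X - algebraMap k K α) = 0 := by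
  haveI : Module.Finite (RatFunc k) K := Module.finite_of_finrank_pos (by rw [hdeg]; norm_num)
  obtain ⟨p, e, he⟩ := exists_below (K' := K) (isFunctionField_ratFunc k).1 P
  have hp : ∀ β ∈ B, 1 ≤ p.1 ((RatFunc.X : RatFunc k) - RatFunc.C β) := by
    intro β hβ
    by_contra hlt
    refine (not_lt.2 (h β hβ)) ?_
    rw [xsub_eq, he]
    exact pow_lt_one₀ zero_le (not_le.1 hlt) (IsOverWith.pos he).ne'
  refine ⟨(over_regular hdeg hy heq hint P he hp).2, fun α hα => ?_⟩
  have hne : algebraMap (RatFunc k) K RatFunc.X - algebraMap k K α ≠ 0 := by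
    rw [xsub_eq]; exact (_root_.map_ne_zero _).2 (xsub_ne α)
  have h1 : P.1 (algebraMap (RatFunc k) K RatFunc.X - algebraMap k K α) = 1 :=
    le_antisymm ((P.1.map_sub _ _).trans (max_le hx (P.2.1 α))) (h α hα)
  simp [FunFld.Place.ord, h1]

include hdeg hy heq hd hpole in
/-- A repartition concentrated over a pole with a component in `k(x)` is trivial. -/
theorem single_mem_W [DecidableEq (FunFld.Place k K)] (P : FunFld.Place k K) {α : k} (hα : α ∈ B)
    (hP : P.1 (algebraMap (RatFunc k) K RatFunc.X - algebraMap k K α) < 1) (h : RatFunc k) :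
    (Pi.single P (algebraMap (RatFunc k) K h) : FunFld.Place k K → K) ∈
      (FunFld.AD (0 : FunFld.Divisor k K) ⊔ LinearMap.range (FunFld.diag k K)) := by
  haveI : Module.Finite (RatFunc k) K := Module.finite_of_finrank_pos (by rw [hdeg]; norm_num)
  obtain ⟨-, -, huniq⟩ := over_pole hdeg hy heq hd hpole P hα hP
  obtain ⟨p, e, he⟩ := exists_below (K' := K) (isFunctionField_ratFunc k).1 P
  have hp : p.1 ((RatFunc.X : RatFunc k) - RatFunc.C α) < 1 := by
    rw [xsub_eq, he] at hP
    exact (pow_lt_one_iff (IsOverWith.pos he).ne').1 hP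
  obtain ⟨-, -, hnd⟩ := at_point p hp
  set w : k[X] := Polynomial.X - Polynomial.C α
  obtain ⟨n, g, hg, hden⟩ := WfDvdMonoid.max_power_factor h.denom_ne_zero (Polynomial.irreducible_X_sub_C α)
  have hcop : IsCoprime (w ^ n) g :=
    (((Polynomial.irreducible_X_sub_C α).coprime_iff_not_dvd).2 hg).pow_left
  obtain ⟨a, b, hab⟩ := hcop
  set s := h.num * b
  set r := s %ₘ (w ^ n)
  set q := s /ₘ (w ^ n)
  have hmonic : (w ^ n).Monic := (Polynomial.monic_X_sub_C α).pow n
  have hsum : r + w ^ n * q = s := Polynomial.modByMonic_add_div s (w ^ n)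
  set ι := algebraMap k[X] (RatFunc k)
  have hg0 : g ≠ 0 := fun h0 => hg (h0 ▸ dvd_zero _)
  have hg' : ι g ≠ 0 := RatFunc.algebraMap_ne_zero hg0
  have hw' : ι (w ^ n) ≠ 0 := RatFunc.algebraMap_ne_zero hmonic.ne_zero
  set z : RatFunc k := ι r / ι (w ^ n)
  have hdiff : h - z = ι (q * g + h.num * a) / ι g := by
    have e1 : h = ι h.num / (ι (w ^ n) * ι g) := by
      rw [← map_mul, ← hden]; exact (RatFunc.num_div_denom h).symm
    conv_lhs => rw [e1]
    rw [eq_div_iff hg']
    simp only [z]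
    field_simp
    rw [← map_mul, ← map_mul, ← map_sub]
    congr 1
    linear_combination (h.num) * (hab).symm - g * hsum
  have hrdeg : r.natDegree ≤ n := by
    rcases Nat.eq_zero_or_pos n with rfl | hn
    · simp [r]
    · refine (Polynomial.natDegree_modByMonic_lt s hmonic ?_).le.trans ?_
      · intro h1
        have := congrArg Polynomial.natDegree h1
        simp [w, Polynomial.natDegree_pow] at this
        omega
      · simp [w, Polynomial.natDegree_pow]
  refine Submodule.mem_sup.2 ⟨Pi.single P (algebraMap (RatFunc k) K h) - FunFld.diag k K (algebraMap (RatFunc k) K z),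
    fun Q => ?_, _, ⟨_, rfl⟩, sub_add_cancel _ _⟩
  rw [Finsupp.coe_zero, Pi.zero_apply, WithZero.exp_zero, Pi.sub_apply]
  change Q.1 (_ - algebraMap (RatFunc k) K z) ≤ 1
  rcases eq_or_ne Q P with rfl | hQ
  · rw [Pi.single_eq_same, ← map_sub, le_one_iff_of_isOver ⟨e, he⟩, hdiff, map_div₀, hnd g hg, div_one,
      show ι _ = Polynomial.aeval (RatFunc.X : RatFunc k) _ from (aeval_X_eq _).symm]
    exact val_aeval_le_one p (at_point p hp).1 _
  · rw [Pi.single_eq_of_ne hQ, zero_sub, Valuation.map_neg]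
    obtain ⟨q', e', he'⟩ := exists_below (K' := K) (isFunctionField_ratFunc k).1 Q
    rw [le_one_iff_of_isOver ⟨e', he'⟩]
    have hge : 1 ≤ q'.1 ((RatFunc.X : RatFunc k) - RatFunc.C α) := by
      by_contra hlt
      refine hQ (huniq Q ?_)
      rw [xsub_eq, he']
      exact pow_lt_one₀ zero_le (not_le.1 hlt) (IsOverWith.pos he').ne'
    rw [map_div₀]
    by_cases hX : q'.1 (RatFunc.X : RatFunc k) ≤ 1
    · have hC : q'.1 ((RatFunc.X : RatFunc k) - RatFunc.C α) ≤ 1 := by
        rw [← RatFunc.algebraMap_eq_C]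
        exact (q'.1.map_sub _ _).trans (max_le hX (q'.2.1 α))
      have h1 : q'.1 (ι (w ^ n)) = 1 := by
        rw [map_pow, map_pow, ← xsub_poly, le_antisymm hC hge, one_pow]
      rw [h1, div_one, show ι r = Polynomial.aeval (RatFunc.X : RatFunc k) r from (aeval_X_eq _).symm]
      exact val_aeval_le_one q' hX _
    · rcases eq_or_ne r 0 with hr | hr
      · simp [hr]
      have hneg : q'.ord (RatFunc.X : RatFunc k) < 0 := by
        rw [not_le, val_eq_exp q' RatFunc.X_ne_zero, ← WithZero.exp_zero, WithZero.exp_lt_exp] at hX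
        omega
      have hr' : ι r ≠ 0 := RatFunc.algebraMap_ne_zero hr
      rw [val_eq_exp q' hr', val_eq_exp q' hw', ord_poly_infty q' hneg hr, ord_poly_infty q' hneg hmonic.ne_zero,
        ← WithZero.exp_sub, ← WithZero.exp_zero, WithZero.exp_le_exp]
      have hwn : (w ^ n).natDegree = n := by simp [w, Polynomial.natDegree_pow]
      rw [hwn]
      omega

end Groth.Agent.H23Hyp
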