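import Mathlib
import Groth.Agent.H23Hyp.Sqrt
import Groth.Agent.H23Hyp.RatPlaces
import Groth.Agent.H23Hyp.Ramify
import Groth.Agent.H23Diff.Expansion
import Groth.Agent.S12516
import Groth.Agent.S12620

/-!
The differential `dx` on `y² = f(x)`.
-/

set_option autoImplicit false
set_option linter.unusedSectionVars false
set_option linter.style.haveILetI false

namespace Groth.Agent.H23Hyp

open Groth.Agent.H23FunFld Groth.Agent.H23Ext

/-- An element of `k(x)` without finite poles is a polynomial. -/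
theorem exists_poly_of_finite_integral {k : Type*} [Field k] {r : RatFunc k}
    (h : ∀ p : FunFld.Place k (RatFunc k), p.1 RatFunc.X ≤ 1 → p.1 r ≤ 1) :
    ∃ q : Polynomial k, algebraMap (Polynomial k) (RatFunc k) q = r := by
  classical
  have hF := isFunctionField_ratFunc k
  obtain ⟨P, -, hP, hother⟩ := (genus_zero_of_adjoin_top hF RatFunc.adjoin_X).2
  set n := (-P.ord r).toNat
  have hL : r ∈ FunFld.L (n • poleDiv (k := k) (RatFunc.X : RatFunc k)) := by
    refine mem_L.2 fun Q => ?_
    rcases eq_or_ne r 0 with rfl | hr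
    · simp
    rw [Finsupp.smul_apply, poleDiv_apply hF, nsmul_eq_mul, val_le_exp_iff Q hr]
    rcases eq_or_ne Q P with rfl | hne
    · rw [hP]; simp [n]
    · have h1 := hother Q hne
      have h2 := (val_le_one_iff Q hr).1 (h Q ((val_le_one_iff Q RatFunc.X_ne_zero).2 h1))
      rw [max_eq_left (by omega)]
      simp
      omega
  obtain ⟨q, -, hq⟩ := exists_poly_of_mem_L hF RatFunc.transcendental_X (r := r)
    (by rw [RatFunc.adjoin_X]; trivial) hL
  exact ⟨q, by rw [← aeval_X_eq, hq]⟩

variable {k K : Type*} [Field k] [Field K] [Algebra k K]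

/-- The derivative of an element of order prime to the characteristic. -/
theorem val_D_of_ord {F : Type*} [Field F] [Algebra k F] {P : FunFld.Place k K}
    {Φ : K →ₐ[k] LaurentSeries F} (hΦ : LocRes.IsExpansionAt P.1 Φ) {z : K} (n : ℤ)
    (hz : P.1 z = WithZero.exp (-n)) (hn : (n : F) ≠ 0) :
    Valued.v (LocRes.D F (Φ z)) = WithZero.exp (-(n - 1)) := by
  have hz0 : z ≠ 0 := fun h => by rw [h, map_zero] at hz; exact WithZero.exp_ne_zero hz.symm
  have hv : Valued.v (Φ z) = WithZero.exp (-n) := (hΦ.1 z).trans hz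
  have hle : Valued.v (LocRes.D F (Φ z)) ≤ WithZero.exp (-(n - 1)) := by
    rw [LaurentSeries.valuation_le_iff_coeff_lt_eq_zero]
    intro i hi
    rw [LocRes.D_coeff, LaurentSeries.coeff_zero_of_lt_valuation F (D := n) hv.le (by omega), smul_zero]
  refine le_antisymm hle (not_lt.1 fun hlt => hn ?_)
  have h := Groth.Agent.S12620.result P.1 Φ hΦ z hz0
  rw [hz, WithZero.log_exp, neg_neg, LocRes.resExp, LocRes.res_apply] at h
  rw [← h]
  have h2 : Valued.v (Φ z⁻¹ * LocRes.D F (Φ z)) ≤ (1 : WithZero (Multiplicative ℤ)) := by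
    rcases eq_or_ne (Valued.v (LocRes.D F (Φ z))) (0 : WithZero (Multiplicative ℤ)) with h0 | h0
    · rw [map_mul, h0, mul_zero]; exact zero_le
    rw [map_mul, hΦ.1, map_inv₀, hz, ← WithZero.exp_log h0, ← WithZero.exp_neg, ← WithZero.exp_add,
      ← WithZero.exp_zero, WithZero.exp_le_exp]
    rw [← WithZero.exp_log h0, WithZero.exp_lt_exp] at hlt
    omega
  exact LaurentSeries.coeff_zero_of_lt_valuation F (D := 0) (h2.trans (by rw [neg_zero, WithZero.exp_zero]))
    (by norm_num)

variable [Algebra (RatFunc k) K] [IsScalarTower k (RatFunc k) K] [FiniteDimensional (RatFunc k) K]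
  (h2 : ringChar k ≠ 2) (hdeg : Module.finrank (RatFunc k) K = 2) {y : K} {f : Polynomial k}
  (hf : Squarefree f) (hd : 1 ≤ f.natDegree)
  (heq : y ^ 2 = algebraMap (RatFunc k) K (algebraMap (Polynomial k) (RatFunc k) f))
include hf hd heq

theorem ratFunc_y_notMem : y ∉ Set.range (algebraMap (RatFunc k) K) := by
  rintro ⟨c, hc⟩
  have hf0 : f ≠ 0 := fun h => by simp [h] at hd
  have hcF : c ^ 2 = algebraMap (Polynomial k) (RatFunc k) f :=
    (algebraMap (RatFunc k) K).injective (by rw [map_pow, hc, heq])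
  obtain ⟨g, hg⟩ := IsIntegrallyClosed.isIntegral_iff.1
    (IsIntegral.of_pow (R := Polynomial k) two_pos (hcF ▸ isIntegral_algebraMap) : IsIntegral (Polynomial k) c)
  have hgf : g * g = f := RatFunc.algebraMap_injective k (by rw [map_mul, hg, ← pow_two, hcF])
  have := Polynomial.natDegree_eq_zero_of_isUnit (hf g (dvd_of_eq hgf))
  rw [← hgf, Polynomial.natDegree_mul (fun h0 => hf0 (by rw [← hgf, h0, zero_mul]))
    (fun h0 => hf0 (by rw [← hgf, h0, zero_mul]))] at hd
  omega

include h2 in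
theorem ratFunc_sigma (hdeg : Module.finrank (RatFunc k) K = 2) : ∃ σ : K ≃ₐ[RatFunc k] K, σ y = -y := by
  obtain ⟨σ, hσ⟩ := exists_conj hdeg (ratFunc_y_notMem hf hd heq) (a := 0)
    (b := -algebraMap (Polynomial k) (RatFunc k) f) (by rw [map_zero, zero_mul, add_zero, map_neg, heq, add_neg_cancel])
  exact ⟨σ, by rw [hσ, map_zero, neg_zero, zero_sub]⟩

include h2 hdeg in
/-- Ramification at a finite place. -/
theorem finite_facts {P : FunFld.Place k K} {p : FunFld.Place k (RatFunc k)} {e : ℕ}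
    (he : FunFld.IsOverWith P p e) (hp : p.1 RatFunc.X ≤ 1) :
    (e = 1 ∨ e = 2) ∧ P.ord y = (e : ℤ) - 1 ∧
      p.ord (algebraMap (Polynomial k) (RatFunc k) f) = (e : ℤ) - 1 := by
  have hF := isFunctionField_ratFunc k
  have hf0 : f ≠ 0 := fun h => by simp [h] at hd
  have hy0 : y ≠ 0 := fun h => ratFunc_y_notMem hf hd heq ⟨0, by rw [map_zero, h]⟩
  obtain ⟨he2, -⟩ := ram_le_two hF he hdeg
  have he1 := IsOverWith.pos he
  have h1 : 2 * P.ord y = (e : ℤ) * p.ord (algebraMap (Polynomial k) (RatFunc k) f) := by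
    rw [← IsOverWith.ord_eq he, ← heq, pow_two, ord_mul P hy0 hy0, two_mul]
  obtain ⟨ho1, ho2⟩ := ord_squarefree_le_one p hp hf
  rcases (show p.ord (algebraMap (Polynomial k) (RatFunc k) f) = 0 ∨
      p.ord (algebraMap (Polynomial k) (RatFunc k) f) = 1 by omega) with ho | ho
  · rw [ho, mul_zero] at h1
    have he1' : e = 1 := by
      by_contra hne
      obtain ⟨σ, hσ⟩ := ratFunc_sigma h2 hf hd heq hdeg
      have hy1 : P.1 y = 1 := by
        rw [val_eq_exp P hy0, show P.ord y = 0 by omega, neg_zero, WithZero.exp_zero]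
      have h := val_conj_sub_lt hF he hdeg (by omega) σ hy1.le
      haveI := ringChar.charP k
      have h2k : (-2 : k) ≠ 0 := neg_ne_zero.2 (Ring.two_ne_zero h2)
      rw [hσ, show -y - y = algebraMap k K (-2) * y by rw [map_neg, map_ofNat]; ring, map_mul,
        val_const P h2k, hy1, one_mul] at h
      exact lt_irrefl _ h
    subst he1'
    exact ⟨Or.inl rfl, by omega, by omega⟩
  · rw [ho, mul_one] at h1
    obtain rfl : e = 2 := by omega
    exact ⟨Or.inr rfl, by omega, by omega⟩

include h2 hdeg in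
theorem infinite_facts {P : FunFld.Place k K} {p : FunFld.Place k (RatFunc k)} {e : ℕ}
    (he : FunFld.IsOverWith P p e) (hp : p.ord (RatFunc.X : RatFunc k) < 0) :
    2 * P.ord y = -((e : ℤ) * f.natDegree) ∧ P.ord (algebraMap (RatFunc k) K RatFunc.X) = -(e : ℤ) ∧
      (Odd f.natDegree → e = 2) ∧ (Even f.natDegree → e = 1) := by
  have hf0 : f ≠ 0 := fun h => by simp [h] at hd
  have hy0 : y ≠ 0 := fun h => ratFunc_y_notMem hf hd heq ⟨0, by rw [map_zero, h]⟩
  obtain ⟨hodd, heven⟩ := Groth.Agent.S12516.result k K h2 hdeg y f hf hd heq p hp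
  refine ⟨?_, ?_, fun h => ?_, fun h => ?_⟩
  · rw [two_mul, ← ord_mul P hy0 hy0, ← pow_two, heq, IsOverWith.ord_eq he, ord_poly_infty p hp hf0, mul_neg]
  · rw [IsOverWith.ord_eq he, (infty_facts p hp).1, mul_neg, mul_one]
  · exact IsOverWith.unique he ((hodd h).2 P ⟨e, he⟩).1
  · exact IsOverWith.unique he ((heven h).2 P ⟨e, he⟩)

include h2 hdeg in
/-- The order of `dx`. -/
theorem val_dx {P : FunFld.Place k K} {p : FunFld.Place k (RatFunc k)} {e : ℕ}
    (he : FunFld.IsOverWith P p e) {F : Type*} [Field F] [Algebra k F]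
    {Φ : K →ₐ[k] LaurentSeries F} (hΦ : LocRes.IsExpansionAt P.1 Φ) :
    (p.1 RatFunc.X ≤ 1 → Valued.v (LocRes.D F (Φ (algebraMap (RatFunc k) K RatFunc.X))) = WithZero.exp (-((e : ℤ) - 1))) ∧
      (p.ord (RatFunc.X : RatFunc k) < 0 →
        Valued.v (LocRes.D F (Φ (algebraMap (RatFunc k) K RatFunc.X))) = WithZero.exp ((e : ℤ) + 1)) := by
  have hF := isFunctionField_ratFunc k
  haveI := ringChar.charP k
  haveI : CharP F (ringChar k) := charP_of_injective_algebraMap (algebraMap k F).injective _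
  have h2F : (2 : F) ≠ 0 := Ring.two_ne_zero (by rwa [ringChar.eq F (ringChar k)])
  have he2 := (ram_le_two hF he hdeg).1
  have he1 := IsOverWith.pos he
  have hne : ((e : ℤ) : F) ≠ 0 := by interval_cases e <;> simp [h2F]
  set x := algebraMap (RatFunc k) K RatFunc.X
  refine ⟨fun hp => ?_, fun hp => ?_⟩
  · obtain ⟨π, hπ, hπv, -⟩ := exists_prime_of_finite p hp
    set w := algebraMap (Polynomial k) (RatFunc k) π
    set w' := algebraMap (Polynomial k) (RatFunc k) (Polynomial.derivative π)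
    have hw : P.1 (algebraMap (RatFunc k) K w) = WithZero.exp (-(e : ℤ)) := by
      rw [he, hπv, ← WithZero.exp_nsmul]; congr 1; simp
    have hD := val_D_of_ord hΦ (e : ℤ) hw hne
    have hdiff : KaehlerDifferential.D k K (algebraMap (RatFunc k) K w) =
        algebraMap (RatFunc k) K w' • KaehlerDifferential.D k K x := by
      have e1 : ∀ q : Polynomial k, algebraMap (RatFunc k) K (algebraMap (Polynomial k) (RatFunc k) q) =
          Polynomial.aeval x q := fun q => by
        rw [← aeval_X_eq]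
        exact (Polynomial.aeval_algHom_apply (IsScalarTower.toAlgHom k (RatFunc k) K) RatFunc.X q).symm
      rw [e1, e1, Derivation.map_aeval]
    rw [Groth.Agent.H23Diff.D_exp_eq Φ hdiff, map_mul, hΦ.1] at hD
    have hxle : P.1 x ≤ 1 := (le_one_iff_of_isOver ⟨e, he⟩ _).2 hp
    have hDle := Groth.Agent.H23Diff.val_D_le (F := F) (f := Φ x) ((hΦ.1 x).trans_le hxle)
    have hw'le : p.1 w' ≤ 1 := by
      rw [show w' = Polynomial.aeval (RatFunc.X : RatFunc k) (Polynomial.derivative π) from (aeval_X_eq _).symm]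
      exact val_aeval_le_one p hp _
    rcases eq_or_ne (p.1 w') 0 with h0 | h0
    · rw [he, h0, zero_pow (by omega), zero_mul] at hD
      exact absurd hD.symm WithZero.exp_ne_zero
    rw [he, ← WithZero.exp_log h0, ← WithZero.exp_nsmul] at hD
    rcases eq_or_ne (Valued.v (LocRes.D F (Φ x))) (0 : WithZero (Multiplicative ℤ)) with h1 | h1
    · rw [h1, mul_zero] at hD
      exact absurd hD.symm WithZero.exp_ne_zero
    rw [← WithZero.exp_log h1, ← WithZero.exp_add, WithZero.exp_inj, nsmul_eq_mul] at hD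
    rw [← WithZero.exp_log h1, WithZero.exp_inj]
    rw [← WithZero.exp_log h0] at hw'le
    rw [← WithZero.exp_log h1] at hDle
    have h4 := WithZero.exp_le_exp.1 (hw'le.trans (WithZero.exp_zero (M := ℤ)).ge)
    have h5 := WithZero.exp_le_exp.1 (hDle.trans (WithZero.exp_zero (M := ℤ)).ge)
    interval_cases e <;> omega
  · have hX := (infty_facts p hp).1
    have hxv : P.1 x = WithZero.exp (e : ℤ) := by
      rw [val_eq_exp P ((_root_.map_ne_zero _).2 RatFunc.X_ne_zero), IsOverWith.ord_eq he, hX]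
      congr 1; ring
    have hu : P.1 x⁻¹ = WithZero.exp (-(e : ℤ)) := by rw [map_inv₀, hxv, WithZero.exp_neg]
    have hD := val_D_of_ord hΦ (e : ℤ) hu hne
    have hx0 : Φ x ≠ 0 := by
      intro h
      have := hΦ.1 x
      rw [h, map_zero, hxv] at this
      exact WithZero.exp_ne_zero this.symm
    have hrel : LocRes.D F (Φ x) = -(Φ x * Φ x) * LocRes.D F (Φ x⁻¹) := by
      have h1 : LocRes.D F (Φ x * Φ x⁻¹) = 0 := by
        rw [← map_mul, mul_inv_cancel₀ (fun h => hx0 (by rw [h, map_zero])), map_one]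
        exact Derivation.map_one_eq_zero _
      rw [Derivation.leibniz, smul_eq_mul, smul_eq_mul] at h1
      have h2 : Φ x * Φ x⁻¹ = 1 := by rw [map_inv₀, mul_inv_cancel₀ hx0]
      linear_combination (Φ x) * h1 - LocRes.D F (Φ x) * h2
    rw [hrel, map_mul, Valuation.map_neg, map_mul, hD, hΦ.1, hxv, ← WithZero.exp_add, ← WithZero.exp_add]
    congr 1; ring

end Groth.Agent.H23Hyp
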