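import Mathlib
import Groth.Agent.H23Hyp.Char2
import Groth.Agent.H23Hyp.SqrtDiff

/-!
Regular differentials on `y² + y = f` in characteristic two.
-/

set_option autoImplicit false
set_option linter.unusedSectionVars false
set_option linter.style.haveILetI false

namespace Groth.Agent.H23Hyp

open Groth.Agent.H23FunFld Groth.Agent.H23Ext

section Rat
variable {k : Type*} [Field k]

local notation "ι" => algebraMap (Polynomial k) (RatFunc k)

/-- `df/dx`. -/
noncomputable def dfdx (f : RatFunc k) : RatFunc k :=
  ι (Polynomial.derivative f.num * f.denom - f.num * Polynomial.derivative f.denom) / ι (f.denom * f.denom)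

theorem D_algebraMap {K : Type*} [Field K] [Algebra k K] [Algebra (RatFunc k) K] [IsScalarTower k (RatFunc k) K]
    (f : RatFunc k) :
    KaehlerDifferential.D k K (algebraMap (RatFunc k) K f) =
      algebraMap (RatFunc k) K (dfdx f) • KaehlerDifferential.D k K (algebraMap (RatFunc k) K RatFunc.X) := by
  set x := algebraMap (RatFunc k) K RatFunc.X
  have hpoly : ∀ q : Polynomial k, KaehlerDifferential.D k K (algebraMap (RatFunc k) K (ι q)) =
      algebraMap (RatFunc k) K (ι (Polynomial.derivative q)) • KaehlerDifferential.D k K x := by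
    intro q
    have e1 : ∀ q : Polynomial k, algebraMap (RatFunc k) K (ι q) = Polynomial.aeval x q := fun q => by
      rw [← aeval_X_eq]
      exact (Polynomial.aeval_algHom_apply (IsScalarTower.toAlgHom k (RatFunc k) K) RatFunc.X q).symm
    rw [e1, e1, Derivation.map_aeval]
  have hd : algebraMap (RatFunc k) K (ι f.denom) ≠ 0 :=
    (_root_.map_ne_zero _).2 (RatFunc.algebraMap_ne_zero f.denom_ne_zero)
  have hmul : f * ι f.denom = ι f.num := by
    conv_lhs => rw [← RatFunc.num_div_denom f]
    rw [RatFunc.num_div_denom f]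
    exact (eq_div_iff (RatFunc.algebraMap_ne_zero f.denom_ne_zero)).1 (RatFunc.num_div_denom f).symm
  have h := congrArg (KaehlerDifferential.D k K) (congrArg (algebraMap (RatFunc k) K) hmul)
  rw [map_mul, Derivation.leibniz, hpoly, hpoly] at h
  refine (smul_right_injective _ hd) ?_
  simp only
  rw [eq_sub_of_add_eq' h, smul_smul, smul_smul, ← sub_smul]
  congr 1
  rw [dfdx, ← map_mul, ← map_mul, ← map_sub]
  congr 1
  have hd' := RatFunc.algebraMap_ne_zero (K := k) f.denom_ne_zero
  rw [map_mul, map_sub, map_mul, map_mul, ← hmul]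
  field_simp

variable [CharP k 2]

theorem odd_cast_eq_one {n : ℕ} (hn : Odd n) : ((n : ℕ) : k) = 1 := by
  obtain ⟨q, rfl⟩ := hn
  have h2 : (2 : k) = 0 := CharTwo.two_eq_zero
  push_cast
  linear_combination (q : k) * h2

/-- The derivative at a finite pole of odd order. -/
theorem val_dfdx_finite [PerfectField k] (p : FunFld.Place k (RatFunc k)) (hp : p.1 RatFunc.X ≤ 1) {f : RatFunc k}
    (hneg : p.ord f < 0) (hodd : Odd (p.ord f)) : p.1 (dfdx f) = WithZero.exp (1 - p.ord f) := by
  obtain ⟨π, hπ, hπv, hnd⟩ := exists_prime_of_finite p hp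
  obtain ⟨m, g, hg, hden⟩ := WfDvdMonoid.max_power_factor f.denom_ne_zero hπ.irreducible
  have hcop := RatFunc.isCoprime_num_denom f
  have hle : ∀ q : Polynomial k, p.1 (ι q) ≤ 1 := fun q => by
    rw [← aeval_X_eq]; exact val_aeval_le_one p hp q
  have hvden : p.1 (ι f.denom) = WithZero.exp (-(m : ℤ)) := by
    rw [hden, map_mul, map_mul, map_pow, map_pow, hπv, hnd g hg, mul_one, ← WithZero.exp_nsmul]
    congr 1; simp
  have hm : 0 < m := by
    by_contra h0
    obtain rfl : m = 0 := by omega
    have h1 : p.1 f ≤ 1 := by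
      rw [← RatFunc.num_div_denom f, map_div₀, hvden]
      simpa using hle f.num
    have hf0 : f ≠ 0 := fun h => by rw [h, ord_zero] at hneg; exact lt_irrefl _ hneg
    have := (val_le_one_iff p hf0).1 h1
    omega
  have hnum : ¬ π ∣ f.num := fun h => hπ.not_isUnit
    (hcop.isUnit_of_dvd' h (hden ▸ Dvd.dvd.mul_right (dvd_pow_self π hm.ne') g))
  have hord : p.ord f = -(m : ℤ) := by
    conv_lhs => rw [← RatFunc.num_div_denom f]
    rw [FunFld.Place.ord, map_div₀, hvden, hnd _ hnum, one_div, ← WithZero.exp_neg, WithZero.log_exp]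
    omega
  have hmk : ((m : ℕ) : k) = 1 := odd_cast_eq_one (by
    rw [hord, odd_neg] at hodd; exact_mod_cast hodd)
  have hπ' : ¬ π ∣ Polynomial.derivative π := fun h =>
    hπ.not_isUnit ((PerfectField.separable_of_irreducible hπ.irreducible).isUnit_of_dvd' dvd_rfl h)
  obtain ⟨m', rfl⟩ : ∃ m', m = m' + 1 := ⟨m - 1, by omega⟩
  set br := π * (Polynomial.derivative f.num * g - f.num * Polynomial.derivative g) - f.num * Polynomial.derivative π * g
  have hN : Polynomial.derivative f.num * f.denom - f.num * Polynomial.derivative f.denom = π ^ m' * br := by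
    rw [hden, Polynomial.derivative_mul, Polynomial.derivative_pow, hmk]
    simp only [br, map_one, add_tsub_cancel_right]
    ring
  have hbr : ¬ π ∣ br := fun h => by
    have h2 : π ∣ f.num * Polynomial.derivative π * g := (dvd_sub_right (dvd_mul_right _ _)).1 h
    rcases hπ.dvd_or_dvd h2 with h3 | h3
    · exact (hπ.dvd_or_dvd h3).elim hnum hπ'
    · exact hg h3
  rw [dfdx, map_div₀, hN, map_mul, map_mul, map_pow, map_pow, hπv, hnd br hbr, mul_one, map_mul, map_mul,
    hvden, ← WithZero.exp_nsmul, ← WithZero.exp_add, ← WithZero.exp_sub, hord]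
  congr 1
  simp
  ring

/-- The derivative at an infinite pole of odd order. -/
theorem val_dfdx_infty (p : FunFld.Place k (RatFunc k)) (hp : p.ord (RatFunc.X : RatFunc k) < 0) {f : RatFunc k}
    (hneg : p.ord f < 0) (hodd : Odd (p.ord f)) : p.1 (dfdx f) = WithZero.exp (-1 - p.ord f) := by
  have hf0 : f ≠ 0 := fun h => by rw [h, ord_zero] at hneg; exact lt_irrefl _ hneg
  have hn0 := RatFunc.num_ne_zero hf0
  have hd0 := f.denom_ne_zero
  have hv : ∀ q : Polynomial k, q ≠ 0 → p.1 (ι q) = WithZero.exp (q.natDegree : ℤ) := fun q hq => by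
    rw [val_eq_exp p (RatFunc.algebraMap_ne_zero hq), ord_poly_infty p hp hq, neg_neg]
  set n := f.num.natDegree
  set d := f.denom.natDegree
  have hord : p.ord f = (d : ℤ) - n := by
    conv_lhs => rw [← RatFunc.num_div_denom f]
    rw [FunFld.Place.ord, map_div₀, hv _ hn0, hv _ hd0, ← WithZero.exp_sub, WithZero.log_exp]
    ring
  rw [hord] at hneg hodd
  have hpar : ((n : ℕ) : k) - d = 1 := by
    have h1 : ((n - d : ℕ) : k) = 1 := odd_cast_eq_one (by
      rw [← Int.odd_coe_nat, Nat.cast_sub (by omega), ← neg_sub]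
      exact hodd.neg)
    rwa [Nat.cast_sub (by omega)] at h1
  set N := Polynomial.derivative f.num * f.denom - f.num * Polynomial.derivative f.denom
  have hle : N.natDegree ≤ n + d - 1 := by
    refine (Polynomial.natDegree_sub_le _ _).trans (max_le ?_ ?_)
    · refine Polynomial.natDegree_mul_le.trans ?_
      have := Polynomial.natDegree_derivative_le f.num
      change (Polynomial.derivative f.num).natDegree + d ≤ _
      change _ ≤ n - 1 at this
      omega
    · rcases Nat.eq_zero_or_pos d with h0 | h0
      · rw [Polynomial.derivative_of_natDegree_zero h0]; simp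
      refine Polynomial.natDegree_mul_le.trans ?_
      have := Polynomial.natDegree_derivative_le f.denom
      change n + (Polynomial.derivative f.denom).natDegree ≤ _
      change _ ≤ d - 1 at this
      omega
  have hcoeff : N.coeff (n + d - 1) = f.num.leadingCoeff * f.denom.leadingCoeff := by
    have e1 : (Polynomial.derivative f.num * f.denom).coeff ((n - 1) + d) =
        f.num.leadingCoeff * (n : k) * f.denom.leadingCoeff := by
      rw [Polynomial.coeff_mul_add_eq_of_natDegree_le (Polynomial.natDegree_derivative_le _) le_rfl,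
        Polynomial.coeff_derivative]
      have e : n - 1 + 1 = n := by omega
      rw [e, ← Nat.cast_add_one, e]
      rfl
    have e2 : (f.num * Polynomial.derivative f.denom).coeff (n + d - 1) =
        f.num.leadingCoeff * (f.denom.leadingCoeff * (d : k)) := by
      rcases Nat.eq_zero_or_pos d with h0 | h0
      · rw [Polynomial.derivative_of_natDegree_zero h0, h0]; simp
      rw [show n + d - 1 = n + (d - 1) by omega,
        Polynomial.coeff_mul_add_eq_of_natDegree_le le_rfl (Polynomial.natDegree_derivative_le _),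
        Polynomial.coeff_derivative]
      have e : d - 1 + 1 = d := by omega
      rw [e, ← Nat.cast_add_one, e]
      rfl
    rw [Polynomial.coeff_sub, show n + d - 1 = n - 1 + d by omega, e1, show n - 1 + d = n + d - 1 by omega, e2]
    linear_combination (f.num.leadingCoeff * f.denom.leadingCoeff) * hpar
  have hne : N.coeff (n + d - 1) ≠ 0 := by
    rw [hcoeff]; exact mul_ne_zero (Polynomial.leadingCoeff_ne_zero.2 hn0) (Polynomial.leadingCoeff_ne_zero.2 hd0)
  have hN0 : N ≠ 0 := fun h => hne (by rw [h, Polynomial.coeff_zero])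
  have hNdeg : N.natDegree = n + d - 1 := le_antisymm hle (Polynomial.le_natDegree_of_ne_zero hne)
  rw [dfdx, map_div₀, hv _ hN0, hv _ (mul_ne_zero hd0 hd0), hNdeg, Polynomial.natDegree_mul hd0 hd0,
    ← WithZero.exp_sub, hord]
  congr 1
  omega

end Rat

variable {k K : Type*} [Field k] [Field K] [Algebra k K] [Algebra (RatFunc k) K] [IsScalarTower k (RatFunc k) K]
  [CharP k 2] [PerfectField k] (hdeg : Module.finrank (RatFunc k) K = 2)
  {y : K} (hy : y ∉ Set.range (algebraMap (RatFunc k) K)) {f : RatFunc k}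
  (heq : y ^ 2 + y = algebraMap (RatFunc k) K f)
  (hodd : ∀ p : FunFld.Place k (RatFunc k), p.ord f < 0 → Odd (p.ord f))

include hdeg hy heq hodd in
/-- The order of `dx`. -/
theorem as_val_dx {P : FunFld.Place k K} {p : FunFld.Place k (RatFunc k)} {e : ℕ}
    (he : FunFld.IsOverWith P p e) {F : Type*} [Field F] [Algebra k F]
    {Φ : K →ₐ[k] LaurentSeries F} (hΦ : LocRes.IsExpansionAt P.1 Φ) :
    (p.1 RatFunc.X ≤ 1 → Valued.v (LocRes.D F (Φ (algebraMap (RatFunc k) K RatFunc.X))) =
        WithZero.exp (-((e : ℤ) * if p.ord f < 0 then (1 - p.ord f) / 2 else 0))) ∧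
      (p.ord (RatFunc.X : RatFunc k) < 0 →
        Valued.v (LocRes.D F (Φ (algebraMap (RatFunc k) K RatFunc.X))) =
          WithZero.exp ((e : ℤ) * (2 - if p.ord f < 0 then (1 - p.ord f) / 2 else 0))) := by
  haveI : Module.Finite (RatFunc k) K := Module.finite_of_finrank_pos (by rw [hdeg]; norm_num)
  haveI : CharP K 2 := charP_of_injective_algebraMap (algebraMap k K).injective 2
  haveI : CharP F 2 := charP_of_injective_algebraMap (algebraMap k F).injective 2
  have hF := isFunctionField_ratFunc k
  set x := algebraMap (RatFunc k) K RatFunc.X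
  set v := Valued.v (LocRes.D F (Φ x))
  have hyne : y ≠ 0 := fun h => hy ⟨0, by rw [map_zero, h]⟩
  by_cases hneg : p.ord f < 0
  · rw [if_pos hneg]
    obtain ⟨rfl, hyo⟩ := as_pole hy heq he hneg (hodd p hneg) hF hdeg
    obtain ⟨q, hq⟩ := hodd p hneg
    have hDy : Valued.v (LocRes.D F (Φ y)) = WithZero.exp (-(p.ord f - 1)) :=
      val_D_of_ord hΦ (p.ord f) (by rw [val_eq_exp P hyne, hyo]) (by
        have h2 : (2 : F) = 0 := CharTwo.two_eq_zero
        rw [hq]; push_cast; rw [h2, zero_mul, zero_add]; exact one_ne_zero)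
    have hd2 : KaehlerDifferential.D k K y = algebraMap (RatFunc k) K (dfdx f) • KaehlerDifferential.D k K x := by
      rw [← D_algebraMap, ← heq, pow_two, map_add, Derivation.leibniz, ← add_smul, CharTwo.add_self_eq_zero,
        zero_smul, zero_add]
    rw [Groth.Agent.H23Diff.D_exp_eq Φ hd2, map_mul, hΦ.1, he] at hDy
    change (p.1 (dfdx f)) ^ 2 * v = _ at hDy
    refine ⟨fun hp => ?_, fun hp => ?_⟩
    · rw [val_dfdx_finite p hp hneg (hodd p hneg), ← WithZero.exp_nsmul] at hDy
      rw [← mul_right_inj' (WithZero.exp_ne_zero (a := 2 • (1 - p.ord f))), hDy, ← WithZero.exp_add]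
      congr 1
      rw [hq]; simp; omega
    · rw [val_dfdx_infty p hp hneg (hodd p hneg), ← WithZero.exp_nsmul] at hDy
      rw [← mul_right_inj' (WithZero.exp_ne_zero (a := 2 • (-1 - p.ord f))), hDy, ← WithZero.exp_add]
      congr 1
      rw [hq]; simp; omega
  · rw [if_neg hneg]
    have hle : p.1 f ≤ 1 := by
      rcases eq_or_ne f 0 with rfl | hf0
      · simp
      · exact (val_le_one_iff p hf0).2 (not_lt.1 hneg)
    obtain ⟨rfl, -⟩ := as_unram hy heq he hle hF hdeg
    refine ⟨fun hp => ?_, fun hp => ?_⟩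
    · obtain ⟨π, hπ, hπv, hnd⟩ := exists_prime_of_finite p hp
      have hw : P.1 (algebraMap (RatFunc k) K (algebraMap (Polynomial k) (RatFunc k) π)) = WithZero.exp (-1) := by
        rw [he, hπv, pow_one]
      have hD := val_D_of_ord hΦ 1 hw (by simp)
      have hπ' : ¬ π ∣ Polynomial.derivative π := fun h =>
        hπ.not_isUnit ((PerfectField.separable_of_irreducible hπ.irreducible).isUnit_of_dvd' dvd_rfl h)
      have hdiff : KaehlerDifferential.D k K (algebraMap (RatFunc k) K (algebraMap (Polynomial k) (RatFunc k) π)) =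
          algebraMap (RatFunc k) K (algebraMap (Polynomial k) (RatFunc k) (Polynomial.derivative π)) •
            KaehlerDifferential.D k K x := by
        rw [D_algebraMap]
        congr 2
        simp [dfdx]
      rw [Groth.Agent.H23Diff.D_exp_eq Φ hdiff, map_mul, hΦ.1, he, hnd _ hπ', one_pow, one_mul] at hD
      exact hD.trans (by simp)
    · have hxv : P.1 x = WithZero.exp (1 : ℤ) := by
        rw [val_eq_exp P ((_root_.map_ne_zero _).2 RatFunc.X_ne_zero), IsOverWith.ord_eq he, (infty_facts p hp).1]
        simp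
      have hu : P.1 x⁻¹ = WithZero.exp (-1) := by rw [map_inv₀, hxv, WithZero.exp_neg]
      have hD := val_D_of_ord hΦ 1 hu (by simp)
      have hx0 : x ≠ 0 := (_root_.map_ne_zero _).2 RatFunc.X_ne_zero
      have hdiff : KaehlerDifferential.D k K x⁻¹ = (-(x⁻¹ ^ 2)) • KaehlerDifferential.D k K x := by
        rw [Derivation.leibniz_inv, inv_pow]
      rw [Groth.Agent.H23Diff.D_exp_eq Φ hdiff, map_mul, hΦ.1, Valuation.map_neg, map_pow, hu,
        ← WithZero.exp_nsmul] at hD
      rw [← mul_right_inj' (WithZero.exp_ne_zero (a := 2 • (-1 : ℤ))), hD, ← WithZero.exp_add]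
      congr 1

end Groth.Agent.H23Hyp
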