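import Mathlib
import Groth.Agent.H23Hyp.Char2Alg

/-!
The genus of `y² + y = f`, `f` with prescribed odd poles.
-/

set_option autoImplicit false
set_option linter.unusedSectionVars false
set_option linter.style.haveILetI false

namespace Groth.Agent.H23Hyp

open Groth.Agent.H23FunFld Groth.Agent.H23Ext

universe u v

variable {k : Type u} {K : Type v}
    [Field k] [Field K] [Algebra k K] [Algebra (RatFunc k) K] [IsScalarTower k (RatFunc k) K]
    [CharP k 2] (hdeg : Module.finrank (RatFunc k) K = 2)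
    {y : K} (hy : y ∉ Set.range (algebraMap (RatFunc k) K)) {f : RatFunc k}
    (heq : y ^ 2 + y = algebraMap (RatFunc k) K f)
    {B : Finset k} {d : k → ℕ} (hd : ∀ β ∈ B, Odd (d β))
    (hpole : ∀ (p : FunFld.Place k (RatFunc k)) (β : k), β ∈ B →
      p.1 ((RatFunc.X : RatFunc k) - RatFunc.C β) < 1 → p.ord f = -(d β : ℤ))
    (hint : ∀ p : FunFld.Place k (RatFunc k), (∀ β ∈ B, 1 ≤ p.1 ((RatFunc.X : RatFunc k) - RatFunc.C β)) → p.1 f ≤ 1)
    (hK : FunFld.IsFunctionField k K)

include hdeg hy heq hd hpole hint hK in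
theorem as_genus_sum : (FunFld.genus k K : ℤ) = ((∑ α ∈ B, (d α + 1) / 2 : ℕ) : ℤ) - 1 := by
  classical
  haveI : FiniteDimensional (RatFunc k) K := Module.finite_of_finrank_pos (hdeg ▸ two_pos)
  haveI : CharP K 2 := charP_of_injective_algebraMap (algebraMap k K).injective 2
  have hR := isFunctionField_ratFunc k
  obtain ⟨-, pinf, hpd, hpo, hoth⟩ := genus_zero_of_adjoin_top hR RatFunc.adjoin_X
  have hneg : pinf.ord (RatFunc.X : RatFunc k) < 0 := by omega
  have hgt : 1 < pinf.1 (RatFunc.X : RatFunc k) := by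
    rw [val_eq_exp pinf RatFunc.X_ne_zero, ← WithZero.exp_zero, WithZero.exp_lt_exp]; omega
  set ι := algebraMap (Polynomial k) (RatFunc k)
  set ex : k → ℕ := fun α => (d α + 1) / 2
  set q : Polynomial k := ∏ α ∈ B, (Polynomial.X - Polynomial.C α) ^ ex α
  have hq0 : q ≠ 0 := Finset.prod_ne_zero_iff.2 fun α _ => pow_ne_zero _ (Polynomial.X_sub_C_ne_zero α)
  have hqdeg : q.natDegree = ∑ α ∈ B, ex α := by
    rw [Polynomial.natDegree_prod _ _ fun α _ => pow_ne_zero _ (Polynomial.X_sub_C_ne_zero α)]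
    simp [Polynomial.natDegree_pow]
  have hnot : ∀ p : FunFld.Place k (RatFunc k), (∀ β ∈ B, 1 ≤ p.1 ((RatFunc.X : RatFunc k) - RatFunc.C β)) →
      ¬ p.ord f < 0 := fun p h => by
    rcases eq_or_ne f 0 with rfl | hf0
    · simp [ord_zero]
    · exact not_lt.2 ((val_le_one_iff p hf0).1 (hint p h))
  have hodd : ∀ p : FunFld.Place k (RatFunc k), p.ord f < 0 → Odd (p.ord f) := by
    intro p hp
    by_cases h : ∀ α ∈ B, 1 ≤ p.1 ((RatFunc.X : RatFunc k) - RatFunc.C α)
    · exact absurd hp (hnot p h)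
    · push Not at h
      obtain ⟨α, hα, h1⟩ := h
      rw [hpole p α hα h1, odd_neg]
      exact_mod_cast hd α hα
  set E : FunFld.Divisor k (RatFunc k) := FunFld.div k (ι q) + Finsupp.single pinf (q.natDegree : ℤ)
  have hE : ∀ p, E p = if p.ord f < 0 then (1 - p.ord f) / 2 else 0 := by
    intro p
    rw [Finsupp.add_apply, div_apply hR]
    rcases eq_or_ne p pinf with rfl | hne
    · rw [if_neg (hnot _ fun β _ => (at_infty _ hgt β).2), Finsupp.single_eq_same,
        ord_poly_infty _ hneg hq0]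
      ring
    have hp : p.1 RatFunc.X ≤ 1 := (val_le_one_iff p RatFunc.X_ne_zero).2 (hoth p hne)
    rw [Finsupp.single_eq_of_ne hne, add_zero]
    have hval : p.1 (ι q) = ∏ α ∈ B, p.1 ((RatFunc.X : RatFunc k) - RatFunc.C α) ^ ex α := by
      simp only [q, map_prod, map_pow, xsub_poly, ι]
    have hle : ∀ α : k, p.1 ((RatFunc.X : RatFunc k) - RatFunc.C α) ≤ 1 := fun α => by
      rw [← RatFunc.algebraMap_eq_C]
      exact (p.1.map_sub _ _).trans (max_le hp (p.2.1 α))
    by_cases h : ∀ α ∈ B, 1 ≤ p.1 ((RatFunc.X : RatFunc k) - RatFunc.C α)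
    · rw [if_neg (hnot p h)]
      have h1 : p.1 (ι q) = 1 := by
        rw [hval]
        exact Finset.prod_eq_one fun α hα => by rw [le_antisymm (hle α) (h α hα), one_pow]
      simp [FunFld.Place.ord, h1]
    · push Not at h
      obtain ⟨β, hβ, hlt⟩ := h
      obtain ⟨t, ht⟩ := hd β hβ
      rw [if_pos (by rw [hpole p β hβ hlt]; omega), hpole p β hβ hlt]
      have hone : ∀ α ∈ B.erase β, p.1 ((RatFunc.X : RatFunc k) - RatFunc.C α) ^ ex α = 1 := by
        intro α hα
        have h1 := val_const p (sub_ne_zero.2 (Finset.ne_of_mem_erase hα).symm)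
        rw [show (RatFunc.X : RatFunc k) - RatFunc.C α = RatFunc.C (β - α) + ((RatFunc.X : RatFunc k) - RatFunc.C β) by
          rw [map_sub]; ring, ← RatFunc.algebraMap_eq_C, p.1.map_add_eq_of_lt_left (by
          rw [h1]; exact hlt), h1, one_pow]
      have h1 : p.1 (ι q) = WithZero.exp (-(ex β : ℤ)) := by
        rw [hval, ← Finset.mul_prod_erase B _ hβ, val_eq_exp p (xsub_ne β), (at_point p hlt).2.1,
          ← WithZero.exp_nsmul, Finset.prod_eq_one hone, mul_one]
        congr 1
        simp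
      simp only [FunFld.Place.ord, h1, WithZero.log_exp, neg_neg, ex]
      omega
  have h := as_genus hy heq hR hK hdeg genus_ratFunc hodd E hE
  have hEdeg : E.deg = (q.natDegree : ℤ) := by
    rw [deg_add, deg_div hR, deg_single, hpd]; simp
  rw [hEdeg, hqdeg] at h
  rw [h, show B.sum ex = ∑ α ∈ B, (d α + 1) / 2 from rfl]
  ring

end Groth.Agent.H23Hyp
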