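import Mathlib
import Groth.Agent.H23Hyp.Char2Diff

/-!
The regular differentials on `y² + y = f` in characteristic two.
-/

set_option autoImplicit false
set_option linter.unusedSectionVars false
set_option linter.style.haveILetI false

namespace Groth.Agent.H23Hyp

open Groth.Agent.H23FunFld Groth.Agent.H23Ext

universe u v w

theorem as_regular (k : Type u) (K : Type v) [Field k] [Field K] [Algebra k K] [Algebra (RatFunc k) K] [IsScalarTower k (RatFunc k) K]
    (hK : FunFld.IsFunctionField k K) (hdeg : Module.finrank (RatFunc k) K = 2) [PerfectField k] [CharP k 2]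
    (y : K) (hy : y ∉ Set.range (algebraMap (RatFunc k) K)) (f : RatFunc k)
    (heq : y ^ 2 + y = algebraMap (RatFunc k) K f)
    (hodd : ∀ p : FunFld.Place k (RatFunc k), p.ord f < 0 → Odd (p.ord f))
    (q : Polynomial k) (hq0 : q ≠ 0)
    (hq : ∀ p : FunFld.Place k (RatFunc k), p.1 RatFunc.X ≤ 1 →
      p.ord (algebraMap (Polynomial k) (RatFunc k) q) = if p.ord f < 0 then (1 - p.ord f) / 2 else 0)
    (F : FunFld.Place k K → Type w) [∀ P, Field (F P)] [∀ P, Algebra k (F P)]
    (φ : ∀ P, K →ₐ[k] LaurentSeries (F P)) (hφ : ∀ P, LocRes.IsExpansionAt P.1 (φ P)) :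
    (∀ a : Polynomial k, a.degree < (FunFld.genus k K : WithBot ℕ) → ∀ P,
      LocRes.vDiff (φ P) (algebraMap (RatFunc k) K (algebraMap (Polynomial k) (RatFunc k) a / algebraMap (Polynomial k) (RatFunc k) q))
        (algebraMap (RatFunc k) K RatFunc.X) ≤ 1) ∧
    (∀ z : K, (∀ P, LocRes.vDiff (φ P) z (algebraMap (RatFunc k) K RatFunc.X) ≤ 1) →
      ∃ a : Polynomial k, a.degree < (FunFld.genus k K : WithBot ℕ) ∧
        z = algebraMap (RatFunc k) K (algebraMap (Polynomial k) (RatFunc k) a / algebraMap (Polynomial k) (RatFunc k) q)) ∧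
    (∀ pinf : FunFld.Place k (RatFunc k), pinf.ord (RatFunc.X : RatFunc k) < 0 →
      (FunFld.genus k K : ℤ) = q.natDegree + (if pinf.ord f < 0 then (1 - pinf.ord f) / 2 else 0) - 1) := by
  classical
  haveI : FiniteDimensional (RatFunc k) K := Module.finite_of_finrank_pos (hdeg ▸ two_pos)
  haveI : CharP K 2 := charP_of_injective_algebraMap (algebraMap k K).injective 2
  have hR := isFunctionField_ratFunc k
  obtain ⟨-, pinf, hpd, hpo, hother⟩ := genus_zero_of_adjoin_top hR RatFunc.adjoin_X
  have hneg : pinf.ord (RatFunc.X : RatFunc k) < 0 := by omega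
  set ι := algebraMap (Polynomial k) (RatFunc k)
  have hιq : ι q ≠ 0 := RatFunc.algebraMap_ne_zero hq0
  have hqinf : pinf.ord (ι q) = -(q.natDegree : ℤ) := ord_poly_infty pinf hneg hq0
  set m : ℤ := if pinf.ord f < 0 then (1 - pinf.ord f) / 2 else 0
  have huniq : ∀ p : FunFld.Place k (RatFunc k), p.ord (RatFunc.X : RatFunc k) < 0 → p = pinf := fun p hp => by
    by_contra hne
    have := hother p hne
    omega
  have hcase : ∀ p : FunFld.Place k (RatFunc k), p.1 RatFunc.X ≤ 1 ∧ p ≠ pinf ∨ p = pinf := fun p => by
    rcases eq_or_ne p pinf with rfl | hne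
    · exact Or.inr rfl
    · exact Or.inl ⟨(val_le_one_iff p RatFunc.X_ne_zero).2 (hother p hne), hne⟩
  set E : FunFld.Divisor k (RatFunc k) := FunFld.div k (ι q) + Finsupp.single pinf ((q.natDegree : ℤ) + m)
  have hE : ∀ p, E p = if p.ord f < 0 then (1 - p.ord f) / 2 else 0 := by
    intro p
    rw [Finsupp.add_apply, div_apply hR]
    rcases hcase p with ⟨hp, hne⟩ | rfl
    · rw [Finsupp.single_eq_of_ne hne, add_zero, hq p hp]
    · rw [Finsupp.single_eq_same, hqinf]
      change _ = m
      ring
  have hEdeg : E.deg = (q.natDegree : ℤ) + m := by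
    rw [deg_add, deg_div hR, deg_single, hpd]; simp
  have hgenus : (FunFld.genus k K : ℤ) = q.natDegree + m - 1 := by
    have := as_genus hy heq hR hK hdeg genus_ratFunc hodd E hE
    omega
  set G : ℤ := (FunFld.genus k K : ℤ)
  set x := algebraMap (RatFunc k) K RatFunc.X
  set Q := algebraMap (RatFunc k) K (ι q)
  have hQ : Q ≠ 0 := (_root_.map_ne_zero _).2 hιq
  -- the regularity criterion
  have hcrit : ∀ (z : K) (P : FunFld.Place k K) (p : FunFld.Place k (RatFunc k)) (e : ℕ), FunFld.IsOverWith P p e →
      (LocRes.vDiff (φ P) z x ≤ 1 ↔ P.1 (z * Q) ≤ WithZero.exp (if p = pinf then (e : ℤ) * (G - 1) else 0)) := by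
    intro z P p e he
    obtain ⟨hfin, hinf⟩ := as_val_dx hdeg hy heq hodd he (hφ P)
    rw [LocRes.vDiff, map_mul, (hφ P).1]
    rcases eq_or_ne z 0 with rfl | hz
    · simp
    rw [val_eq_exp P hz, val_eq_exp P (mul_ne_zero hz hQ), ord_mul P hz hQ, IsOverWith.ord_eq he]
    rcases hcase p with ⟨hp, hne⟩ | rfl
    · rw [hfin hp, if_neg hne, hq p hp, ← WithZero.exp_add, ← WithZero.exp_zero, WithZero.exp_le_exp, WithZero.exp_le_exp]
      constructor <;> intro h <;> linarith
    · rw [hinf hneg, if_pos rfl, hqinf, ← WithZero.exp_add, ← WithZero.exp_zero, WithZero.exp_le_exp, WithZero.exp_le_exp,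
        show G - 1 = q.natDegree + m - 2 by omega]
      constructor <;> intro h <;> linarith
  have hbelow : ∀ P : FunFld.Place k K, ∃ p e, FunFld.IsOverWith P p e := fun P => by
    obtain ⟨p, e, he⟩ := exists_below hR.1 P; exact ⟨p, e, he⟩
  refine ⟨fun a ha P => ?_, fun z hz => ?_, fun p hp => ?_⟩
  · obtain ⟨p, e, he⟩ := hbelow P
    rw [hcrit _ P p e he, ← map_mul, div_mul_cancel₀ _ hιq]
    rcases eq_or_ne a 0 with rfl | ha0
    · simp
    rcases hcase p with ⟨hp, hne⟩ | rfl
    · rw [if_neg hne, WithZero.exp_zero, le_one_iff_of_isOver ⟨e, he⟩, ← aeval_X_eq]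
      exact val_aeval_le_one p hp _
    · rw [if_pos rfl, val_le_exp_iff P ((_root_.map_ne_zero _).2 (RatFunc.algebraMap_ne_zero ha0)),
        IsOverWith.ord_eq he, ord_poly_infty _ hneg ha0]
      rw [Polynomial.degree_eq_natDegree ha0, Nat.cast_lt] at ha
      have hGe : (a.natDegree : ℤ) ≤ G - 1 := by simp only [G]; omega
      have h4 := mul_le_mul_of_nonneg_left hGe (Int.natCast_nonneg e)
      linarith
  · obtain ⟨σ, hσ⟩ := as_sigma hy heq hdeg
    set w := z * Q
    obtain ⟨a, b, hab⟩ := coords hdeg hy w
    have hb : algebraMap (RatFunc k) K b = σ w - w := by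
      rw [hab, map_add, map_mul, σ.commutes, σ.commutes, hσ]
      have h2 : (2 : K) = 0 := CharTwo.two_eq_zero
      linear_combination (algebraMap (RatFunc k) K b * (y + 1)) * h2
    have hwb : ∀ (P : FunFld.Place k K) (p : FunFld.Place k (RatFunc k)) (e : ℕ), FunFld.IsOverWith P p e →
        P.1 w ≤ WithZero.exp ((e : ℤ) * if p = pinf then G - 1 else 0) := by
      intro P p e he
      have := (hcrit z P p e he).1 (hz P)
      rw [mul_ite, mul_zero]
      exact this
    have hbb : ∀ (P : FunFld.Place k K) (p : FunFld.Place k (RatFunc k)) (e : ℕ), FunFld.IsOverWith P p e →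
        P.1 (algebraMap (RatFunc k) K b) ≤ WithZero.exp ((e : ℤ) * if p = pinf then G - 1 else 0) := by
      intro P p e he
      rw [hb]
      refine (P.1.map_sub _ _).trans (max_le ?_ (hwb P p e he))
      have := hwb _ p e (isOverWith_conj he σ)
      rwa [conj_apply] at this
    have hb0 : b = 0 := by
      by_contra hb0
      have hbne : algebraMap (RatFunc k) K b ≠ 0 := (_root_.map_ne_zero _).2 hb0
      have hyne : y ≠ 0 := fun h => hy ⟨0, by rw [map_zero, h]⟩
      have hmem : b ∈ FunFld.L (Finsupp.single pinf (G - 1) - E) := by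
        refine mem_L.2 fun p => ?_
        rw [val_le_exp_iff p hb0, Finsupp.sub_apply, hE, Finsupp.single_apply]
        obtain ⟨P, e, he⟩ := exists_above (K' := K) hR p
        have h1 := hbb P p e he
        rw [val_le_exp_iff P hbne, IsOverWith.ord_eq he] at h1
        have he1 := IsOverWith.pos he
        by_cases hp : p.ord f < 0
        · obtain ⟨rfl, hyo⟩ := as_pole hy heq he hp (hodd p hp) hR hdeg
          rw [if_pos hp]
          obtain ⟨t, ht⟩ := hodd p hp
          have hby : P.1 (algebraMap (RatFunc k) K b * y) ≤ WithZero.exp (((2 : ℕ) : ℤ) * if p = pinf then G - 1 else 0) := by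
            rcases eq_or_ne a 0 with rfl | ha
            · have := hwb P p 2 he
              rwa [hab, map_zero, zero_add] at this
            have hne : P.1 (algebraMap (RatFunc k) K a) ≠ P.1 (algebraMap (RatFunc k) K b * y) := by
              intro h
              have := congrArg (fun v => -WithZero.log v) h
              change P.ord (algebraMap (RatFunc k) K a) = P.ord (algebraMap (RatFunc k) K b * y) at this
              rw [ord_mul P hbne hyne, hyo, IsOverWith.ord_eq he, IsOverWith.ord_eq he] at this
              push_cast at this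
              omega
            have := hwb P p 2 he
            rw [hab, Valuation.map_add_of_distinct_val _ hne] at this
            exact (le_max_right _ _).trans this
          rw [val_le_exp_iff P (mul_ne_zero hbne hyne), ord_mul P hbne hyne, hyo, IsOverWith.ord_eq he] at hby
          rcases eq_or_ne p pinf with h' | h'
          · simp only [if_pos h', if_pos h'.symm] at hby h1 ⊢
            push_cast at hby; omega
          · simp only [if_neg h', if_neg (Ne.symm h')] at hby h1 ⊢
            push_cast at hby; omega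
        · rw [if_neg hp]
          rcases eq_or_ne p pinf with h' | h'
          · simp only [if_pos h', if_pos h'.symm] at h1 ⊢
            have := mul_le_mul_iff_of_pos_left (a := (e : ℤ)) (b := -p.ord b) (c := G - 1) (by omega)
            rw [mul_neg] at this
            have := this.1 h1
            omega
          · simp only [if_neg h', if_neg (Ne.symm h')] at h1 ⊢
            have := mul_le_mul_iff_of_pos_left (a := (e : ℤ)) (b := -p.ord b) (c := 0) (by omega)
            rw [mul_neg] at this
            have := this.1 h1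
            omega
      rw [L_eq_bot_of_deg_neg hR (by rw [deg_sub, deg_single, hpd, hEdeg]; push_cast; omega), Submodule.mem_bot] at hmem
      exact hb0 hmem
    have hwa : w = algebraMap (RatFunc k) K a := by rw [hab, hb0, map_zero, zero_mul, add_zero]
    obtain ⟨r, hr⟩ := exists_poly_of_finite_integral (r := a) (fun p hp => by
      obtain ⟨P, e, he⟩ := exists_above (K' := K) hR p
      have h := hwb P p e he
      rw [hwa, if_neg (fun h => by
        subst h; exact (not_le.2 hneg) ((val_le_one_iff _ RatFunc.X_ne_zero).1 hp)), mul_zero, WithZero.exp_zero] at h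
      exact (le_one_iff_of_isOver ⟨e, he⟩ a).1 h)
    refine ⟨r, ?_, by rw [map_div₀, hr, ← hwa]; exact (mul_div_cancel_right₀ z hQ).symm⟩
    rcases eq_or_ne r 0 with rfl | hr0
    · rw [Polynomial.degree_zero]; exact WithBot.bot_lt_coe _
    rw [Polynomial.degree_eq_natDegree hr0, Nat.cast_lt]
    obtain ⟨P, e, he⟩ := exists_above (K' := K) hR pinf
    have he1 := IsOverWith.pos he
    have h := hwb P pinf e he
    rw [hwa, if_pos rfl, ← hr, val_le_exp_iff P ((_root_.map_ne_zero _).2 (RatFunc.algebraMap_ne_zero hr0)),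
      IsOverWith.ord_eq he, ord_poly_infty _ hneg hr0, mul_neg, neg_neg] at h
    have := le_of_mul_le_mul_left h (by omega)
    omega
  · rw [huniq p hp]; exact hgenus

end Groth.Agent.H23Hyp
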